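import Cfsg.Agent.Lib.Palfy.DualAct
import Cfsg.Agent.Lib.OddChar.Dual
import Cfsg.Agent.Lib.Char.CentralCount
import Cfsg.Agent.Lib.Char.Linear
import Cfsg.Agent.Lib.Char.Clifford
import Cfsg.Agent.Lib.Char.Complete

/-!
# Linear characters of a finite group, and characters of groups of class two
-/

set_option autoImplicit false
set_option linter.unusedSectionVars false
set_option linter.style.haveILetI false
set_option linter.deprecated false

namespace Cfsg.Agent.Lib.Palfy.Class2

open Cfsg Cfsg.Agent.Lib.Palfy.DualAct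
open Cfsg.Agent.Lib.Char.Basic Cfsg.Agent.Lib.Char.Ortho Cfsg.Agent.Lib.Char.Complete
open Cfsg.Agent.Lib.Char.Conj Cfsg.Agent.Lib.Char.Degree
open Cfsg.Agent.Lib.Char.Clifford Cfsg.Agent.Lib.Char.CliffordCorr
open scoped ComplexConjugate

universe u

variable {R : Type u} [Group R]

/-- The linear characters trivial on a subgroup. -/
def annihil (D : Subgroup R) : Subgroup (R →* ℂˣ) where
  carrier := {μ | ∀ u ∈ D, μ u = 1}
  mul_mem' := by
    intro a b ha hb x hx
    simp [ha x hx, hb x hx]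
  one_mem' := by
    intro x _
    simp
  inv_mem' := by
    intro a ha x hx
    simp [ha x hx]

@[simp] theorem mem_annihil {D : Subgroup R} {μ : R →* ℂˣ} : μ ∈ annihil D ↔ ∀ u ∈ D, μ u = 1 :=
  Iff.rfl

theorem hom_commutator (μ : R →* ℂˣ) {u : R} (hu : u ∈ commutator R) : μ u = 1 := by
  have h : commutator R ≤ μ.ker := Abelianization.commutator_subset_ker μ
  exact h hu

variable [Finite R]

instance finite_hom : Finite (R →* ℂˣ) := by
  have := Cfsg.Agent.Lib.OddChar.Dual.enough (Abelianization R)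
  have h : Finite (Abelianization R →* ℂˣ) := inferInstance
  exact Finite.of_equiv _ (Abelianization.lift (G := R) (A := ℂˣ)).symm

theorem exists_annihil_ne_one {D : Subgroup R} (hD : commutator R ≤ D) {u : R} (hu : u ∉ D) :
    ∃ μ ∈ annihil D, μ u ≠ 1 := by
  have h1 : Abelianization.of u ∉ D.map (Abelianization.of (G := R)) := by
    rintro ⟨v, hv, hvu⟩
    apply hu
    have h2 : v⁻¹ * u ∈ commutator R := by
      rw [← Abelianization.ker_of, MonoidHom.mem_ker, map_mul, map_inv, ← hvu]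
      simp
    have h3 := D.mul_mem hv (hD h2)
    simpa using h3
  obtain ⟨φ, hφ, hne⟩ := Cfsg.Agent.Lib.OddChar.Dual.exists_ne_one_of_not_mem h1
  refine ⟨φ.comp Abelianization.of, ?_, hne⟩
  intro v hv
  exact hφ _ ⟨v, hv, rfl⟩

theorem mem_of_forall_annihil {D : Subgroup R} (hD : commutator R ≤ D) {u : R}
    (h : ∀ μ ∈ annihil D, μ u = 1) : u ∈ D := by
  by_contra hu
  obtain ⟨μ, hμ, hne⟩ := exists_annihil_ne_one hD hu
  exact hne (h μ hμ)

theorem mem_commutator_of_forall {u : R} (h : ∀ μ : R →* ℂˣ, μ u = 1) : u ∈ commutator R :=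
  mem_of_forall_annihil le_rfl (fun μ _ => h μ)

theorem card_annihil {D : Subgroup R} (hD : commutator R ≤ D) :
    Nat.card (annihil D) = D.index := by
  set C := D.map (Abelianization.of (G := R)) with hC
  have h1 := Cfsg.Agent.Lib.OddChar.Dual.card_dualTriv C
  have h2 : Nat.card (annihil D) = Nat.card (Cfsg.Agent.Lib.OddChar.Dual.dualTriv C) := by
    refine Nat.card_congr ⟨fun μ => ⟨Abelianization.lift μ.1, ?_⟩,
      fun φ => ⟨φ.1.comp Abelianization.of, ?_⟩, ?_, ?_⟩
    · rintro _ ⟨v, hv, rfl⟩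
      simpa using μ.2 v hv
    · intro v hv
      exact φ.2 _ ⟨v, hv, rfl⟩
    · intro μ
      apply Subtype.ext
      ext v
      simp
    · intro φ
      apply Subtype.ext
      ext v
      simp
  rw [h2, h1]
  have h3 : Nat.card (Abelianization R ⧸ C) = C.index := rfl
  rw [h3, hC, Subgroup.index_map, Abelianization.ker_of, sup_eq_left.mpr hD]
  have h4 : (Abelianization.of (G := R)).range = ⊤ := by
    rw [MonoidHom.range_eq_top]
    exact QuotientGroup.mk_surjective
  rw [h4, Subgroup.index_top, mul_one]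

theorem card_hom : Nat.card (R →* ℂˣ) = (commutator R).index := by
  rw [← card_annihil le_rfl]
  have h : annihil (commutator R) = ⊤ := by
    ext μ
    simp only [Subgroup.mem_top, iff_true, mem_annihil]
    intro u hu
    exact hom_commutator μ hu
  rw [h, Subgroup.card_top]

/-- Multiplication of a function by a linear character. -/
def homMul (μ : R →* ℂˣ) (θ : R → ℂ) : R → ℂ := fun u => ((μ u : ℂˣ) : ℂ) * θ u

@[simp] theorem homMul_apply (μ : R →* ℂˣ) (θ : R → ℂ) (u : R) :
    homMul μ θ u = ((μ u : ℂˣ) : ℂ) * θ u := rfl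

theorem homMul_homMul (μ ν : R →* ℂˣ) (θ : R → ℂ) : homMul μ (homMul ν θ) = homMul (μ * ν) θ := by
  funext u
  simp [mul_assoc]

@[simp] theorem homMul_one (θ : R → ℂ) : homMul 1 θ = θ := by
  funext u
  simp

theorem hom_mul_conj (μ : R →* ℂˣ) (u : R) : ((μ u : ℂˣ) : ℂ) * conj ((μ u : ℂˣ) : ℂ) = 1 := by
  rw [Cfsg.Agent.Lib.OddChar.Dual.conj_apply, ← Units.val_mul, ← map_mul]
  simp

theorem isIrr_homMul (μ : R →* ℂˣ) {θ : R → ℂ} (hθ : IsIrrCharacter R θ) :
    IsIrrCharacter R (homMul μ θ) := by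
  classical
  letI := Fintype.ofFinite R
  apply isIrrCharacter_of_classInner_self_eq_one
  · exact isCharacter_mul (isCharacter_of_isIrrCharacter (isIrr_linChar μ))
      (isCharacter_of_isIrrCharacter hθ)
  · have h := classInner_self_of_isIrr hθ
    rw [classInner_def] at h ⊢
    rw [← h]
    congr 1
    refine Finset.sum_congr rfl fun u _ => ?_
    simp only [homMul_apply, map_mul]
    calc ((μ u : ℂˣ) : ℂ) * θ u * (conj ((μ u : ℂˣ) : ℂ) * conj (θ u))
        = (((μ u : ℂˣ) : ℂ) * conj ((μ u : ℂˣ) : ℂ)) * (θ u * conj (θ u)) := by ring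
      _ = θ u * conj (θ u) := by rw [hom_mul_conj, one_mul]

theorem homMul_one_apply (μ : R →* ℂˣ) (θ : R → ℂ) : homMul μ θ 1 = θ 1 := by
  simp

open Classical in
/-- The sum over all linear characters. -/
theorem sum_hom [Fintype (R →* ℂˣ)] (u : R) :
    ∑ μ : R →* ℂˣ, ((μ u : ℂˣ) : ℂ) =
      if u ∈ commutator R then (Nat.card (R →* ℂˣ) : ℂ) else 0 := by
  classical
  by_cases hu : u ∈ commutator R
  · rw [if_pos hu]
    have h1 : ∀ μ : R →* ℂˣ, ((μ u : ℂˣ) : ℂ) = 1 := by
      intro μ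
      rw [hom_commutator μ hu]
      rfl
    simp only [h1, Finset.sum_const, Finset.card_univ, nsmul_eq_mul, mul_one,
      Nat.card_eq_fintype_card]
  · rw [if_neg hu]
    obtain ⟨μ₀, -, hne⟩ := exists_annihil_ne_one le_rfl hu
    have hs : ∑ μ : R →* ℂˣ, ((μ u : ℂˣ) : ℂ) = ((μ₀ u : ℂˣ) : ℂ) * ∑ μ : R →* ℂˣ, ((μ u : ℂˣ) : ℂ) := by
      rw [Finset.mul_sum]
      rw [← Equiv.sum_comp (Equiv.mulLeft μ₀)]
      refine Finset.sum_congr rfl fun μ _ => ?_
      simp
    have hne' : ((μ₀ u : ℂˣ) : ℂ) ≠ 1 := fun e => hne (Units.ext e)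
    have h4 : (1 - ((μ₀ u : ℂˣ) : ℂ)) * ∑ μ : R →* ℂˣ, ((μ u : ℂˣ) : ℂ) = 0 := by
      rw [sub_mul, one_mul, ← hs, sub_self]
    rcases mul_eq_zero.1 h4 with h5 | h5
    · exact absurd (sub_eq_zero.1 h5).symm hne'
    · exact h5

/-- Two irreducible characters over the same central character differ by a linear character. -/
theorem exists_hom_mul_eq (hZ : ∀ z ∈ commutator R, ∀ u, z * u = u * z) {θ₁ θ₂ : R → ℂ}
    (h₁ : IsIrrCharacter R θ₁) (h₂ : IsIrrCharacter R θ₂)
    (hover : ∀ z ∈ commutator R, θ₂ z * θ₁ 1 = θ₁ z * θ₂ 1) :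
    ∃ μ : R →* ℂˣ, θ₂ = homMul μ θ₁ := by
  classical
  letI := Fintype.ofFinite R
  letI : Fintype (R →* ℂˣ) := Fintype.ofFinite _
  obtain ⟨a, ha0, ha⟩ := exists_pos_deg_of_isIrr h₁
  obtain ⟨b, hb0, hb⟩ := exists_pos_deg_of_isIrr h₂
  have ha' : (a : ℂ) ≠ 0 := by exact_mod_cast ha0.ne'
  have hb' : (b : ℂ) ≠ 0 := by exact_mod_cast hb0.ne'
  -- the value on central elements
  have hval : ∀ z ∈ commutator R, θ₂ z * conj (θ₁ z) = a * b := by
    intro z hz
    have hzc : z ∈ Subgroup.center R := Subgroup.mem_center_iff.mpr fun u => (hZ z hz u).symm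
    have h1 := Cfsg.Agent.Lib.Char.CentralCount.char_mul_central h₁ hzc z⁻¹
    rw [inv_mul_cancel, char_inv_eq_conj (isCharacter_of_isIrrCharacter h₁), ha] at h1
    have h2 := hover z hz
    rw [ha, hb] at h2
    apply mul_right_cancel₀ ha'
    calc θ₂ z * conj (θ₁ z) * a = (θ₂ z * a) * conj (θ₁ z) := by ring
      _ = (θ₁ z * b) * conj (θ₁ z) := by rw [h2]
      _ = b * (conj (θ₁ z) * θ₁ z) := by ring
      _ = b * (a * a) := by rw [← h1]
      _ = a * b * a := by ring
  by_contra hno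
  push Not at hno
  have hzero : ∀ μ : R →* ℂˣ, classInner θ₂ (homMul μ θ₁) = 0 := fun μ =>
    classInner_eq_zero_of_isIrr_of_ne h₂ (isIrr_homMul μ h₁) (hno μ)
  have hsum : ∑ μ : R →* ℂˣ, classInner θ₂ (homMul μ θ₁) = 0 :=
    Finset.sum_eq_zero fun μ _ => hzero μ
  have hcalc : ∑ μ : R →* ℂˣ, classInner θ₂ (homMul μ θ₁) =
      (Nat.card R : ℂ)⁻¹ * ∑ u : R, if u ∈ commutator R then
        (a : ℂ) * b * (Nat.card (R →* ℂˣ) : ℂ) else 0 := by
    simp only [classInner_def]
    rw [← Finset.mul_sum]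
    congr 1
    rw [Finset.sum_comm]
    refine Finset.sum_congr rfl fun u _ => ?_
    have h1 : ∀ μ : R →* ℂˣ, θ₂ u * conj (homMul μ θ₁ u) =
        (θ₂ u * conj (θ₁ u)) * conj ((μ u : ℂˣ) : ℂ) := by
      intro μ
      simp only [homMul_apply, map_mul]
      ring
    simp only [h1]
    rw [← Finset.mul_sum, ← map_sum, sum_hom]
    by_cases hu : u ∈ commutator R
    · rw [if_pos hu, if_pos hu, hval u hu, Complex.conj_natCast]
    · rw [if_neg hu, if_neg hu, map_zero, mul_zero]
  rw [hcalc, Finset.sum_ite, Finset.sum_const_zero, add_zero, Finset.sum_const, nsmul_eq_mul] at hsum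
  have hR : (Nat.card R : ℂ) ≠ 0 := by exact_mod_cast Nat.card_pos.ne'
  have hX : (Nat.card (R →* ℂˣ) : ℂ) ≠ 0 := by exact_mod_cast Nat.card_pos.ne'
  have hF : (((Finset.univ.filter fun u => u ∈ commutator R).card : ℕ) : ℂ) ≠ 0 := by
    have h1 : (1 : R) ∈ Finset.univ.filter fun u => u ∈ commutator R := by
      simp [Subgroup.one_mem]
    exact_mod_cast (Finset.card_pos.mpr ⟨1, h1⟩).ne'
  simp only [mul_eq_zero, inv_eq_zero] at hsum
  tauto

/-- Central elements: characters are determined by a linear character on them. -/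
theorem exists_irr_over_central (Z : Subgroup R) (hZ : ∀ z ∈ Z, ∀ u, z * u = u * z)
    (lam : Z →* ℂˣ) : ∃ θ : IrrCharacter R, ∀ z : Z, (θ : R → ℂ) z = (θ : R → ℂ) 1 * lam z := by
  classical
  letI := Fintype.ofFinite R
  letI : Fintype Z := Fintype.ofFinite _
  have hZn : Z.Normal := ⟨fun z hz g => by
    have h1 := hZ z hz g
    rw [← h1]
    simpa using hz⟩
  obtain ⟨θ, hθ⟩ := Cfsg.Agent.Lib.Blk89.ItoMichler.exists_irr_over (G := R) (N := Z)
    (isIrr_linChar lam)
  refine ⟨θ, ?_⟩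
  have h1 := clifford_restrict hZn θ.2 (isIrr_linChar lam) hθ
  have horb : orbitFinset hZn (linChar lam) = {linChar lam} := by
    ext ψ
    rw [mem_orbitFinset, Finset.mem_singleton]
    constructor
    · rintro ⟨g, rfl⟩
      funext z
      simp only [conjOn_apply, linChar_apply]
      congr 2
      apply Subtype.ext
      show g * (z : R) * g⁻¹ = z
      rw [← hZ z z.2 g]
      simp
    · rintro rfl
      exact ⟨1, conjOn_one _ _⟩
  rw [horb, Finset.sum_singleton] at h1
  set c := classInner (fun n : Z => (θ : R → ℂ) n) (linChar lam) with hc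
  have h2 : ∀ z : Z, (θ : R → ℂ) z = c * lam z := fun z => congrFun h1 z
  have h3 := h2 1
  simp only [Subgroup.coe_one, map_one, Units.val_one, mul_one] at h3
  intro z
  rw [h2 z, h3]

/-- The second orthogonality relation on an element where all the nonlinear characters vanish. -/
theorem card_centralizer_of_vanish {u : R}
    (h : ∀ χ : IrrCharacter R, (χ : R → ℂ) 1 ≠ 1 → (χ : R → ℂ) u = 0) :
    Nat.card (Subgroup.centralizer ({u} : Set R)) = (commutator R).index := by
  classical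
  letI := Fintype.ofFinite R
  have := finite_irrCharacter (G := R)
  letI := Fintype.ofFinite (IrrCharacter R)
  have h1 := sum_irr_mul_conj (G := R) u u
  rw [if_pos (IsConj.refl u)] at h1
  have h2 : ∀ χ : IrrCharacter R, (χ : R → ℂ) u * conj ((χ : R → ℂ) u) =
      if (χ : R → ℂ) 1 = 1 then 1 else 0 := by
    intro χ
    split_ifs with h3
    · obtain ⟨lam, hlam⟩ := Cfsg.Agent.Lib.Char.Linear.exists_hom_of_deg_one
        (isCharacter_of_isIrrCharacter χ.2) h3
      rw [hlam]
      exact hom_mul_conj lam u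
    · rw [h χ h3, zero_mul]
  simp only [h2] at h1
  rw [Finset.sum_boole] at h1
  have h3 := Cfsg.Agent.Lib.Char.Linear.card_linear_eq_index (G := R)
  rw [Nat.card_eq_fintype_card, Fintype.card_subtype] at h3
  rw [← h3]
  exact_mod_cast h1.symm

end Cfsg.Agent.Lib.Palfy.Class2
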