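import Cfsg.Agent.Lib.Palfy.LemmaT

/-!
# The case where the minimal normal subgroup has a complement
-/

set_option autoImplicit false
set_option linter.unusedSectionVars false
set_option linter.unusedVariables false

namespace Cfsg.Agent.Lib.Palfy.CaseOne

open scoped Pointwise ComplexConjugate commutatorElement
open Cfsg Subgroup
open Cfsg.Agent.Lib.Char.Basic Cfsg.Agent.Lib.Char.Ortho Cfsg.Agent.Lib.Char.Complete
  Cfsg.Agent.Lib.Char.Clifford Cfsg.Agent.Lib.Char.CliffordCorr Cfsg.Agent.Lib.Char.Conj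
  Cfsg.Agent.Lib.Char.Degree Cfsg.Agent.Lib.Char.Linear Cfsg.Agent.Lib.CharDeg.SmallDegree
  Cfsg.Agent.Lib.CharDeg.ItoMichlerSolv Cfsg.Agent.Lib.Solvable.Basic
  Cfsg.Agent.Lib.Palfy.Uniq Cfsg.Agent.Lib.Palfy.ThmZ Cfsg.Agent.Lib.Palfy.Red
  Cfsg.Agent.Lib.Palfy.Dual Cfsg.Agent.Lib.Palfy.LemmaT

universe u

variable {G : Type u} [Group G] [Finite G]

/-- The trivial character of a trivial group. -/
noncomputable def trivChar : IrrCharacter PUnit.{u + 1} :=
  ⟨fun x => (((1 : PUnit.{u + 1} →* ℂˣ) x : ℂˣ) : ℂ), isIrrCharacter_of_hom 1⟩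

theorem charDegree_trivChar : charDegree ((trivChar.{u}) : PUnit.{u + 1} → ℂ) = 1 := by
  apply charDegree_eq_of_eq_natCast
  simp [trivChar]

/-- Degree consequences of an extension. -/
theorem fiber_of_ext {R₀ : Subgroup G} [Fintype G] [Fintype R₀] (hR : R₀.Normal) {θ : R₀ → ℂ}
    (hθ : IsIrrCharacter R₀ θ) {T : Subgroup G} [Fintype T] (hRT : R₀ ≤ T) (hT : T = inertia hR θ)
    {χ₀ : T → ℂ} (hχ₀ : IsIrrCharacter T χ₀) (hres : res hRT χ₀ = θ) {s r : ℕ}
    (hdiv : ∀ χ : IrrCharacter G, classInner (fun n : R₀ => (χ : G → ℂ) n) θ ≠ 0 →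
      r ∣ charDegree (χ : G → ℂ)) (hns : NoPair G s r) :
    ¬ s ∣ T.index ∧ ∀ (X : Type u) [Group X] [Finite X] (f : T →* X), Function.Surjective f →
      (∀ x : T, (x : G) ∈ R₀ → f x = 1) → ∀ β : IrrCharacter X, ¬ s ∣ charDegree (β : X → ℂ) := by
  have key : ∀ (X : Type u) [Group X] [Finite X] (f : T →* X), Function.Surjective f →
      (∀ x : T, (x : G) ∈ R₀ → f x = 1) → ∀ β : IrrCharacter X,
      ¬ s ∣ T.index * charDegree θ * charDegree (β : X → ℂ) := by
    intro X _ _ f hf hfk β hd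
    obtain ⟨χ, hχ, hdeg⟩ := exists_irr_of_ext hR hθ hRT hT hχ₀ hres f hf
      (fun r => hfk ⟨r, hRT r.2⟩ r.2) β
    rw [← hdeg] at hd
    exact hns χ hd (hdiv χ hχ)
  constructor
  · intro hd
    apply key PUnit.{u + 1} 1 (fun x => ⟨1, Subsingleton.elim _ _⟩) (fun _ _ => rfl) trivChar
    rw [charDegree_trivChar, mul_one]
    exact hd.mul_right _
  · intro X _ _ f hf hfk β hd
    exact key X f hf hfk β (hd.mul_left _)

/-- The product with the Sylow subgroup is normal. -/
theorem sup_normal [Group.IsSolvable G] {N : Subgroup G} (hNn : N.Normal) {r : ℕ} (hr : r.Prime)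
    (hbad : ∀ χ : IrrCharacter G, (∀ n ∈ N, (χ : G → ℂ) n = (χ : G → ℂ) 1) →
      ¬ r ∣ charDegree (χ : G → ℂ)) (R : Sylow r G) : ((R : Subgroup G) ⊔ N).Normal := by
  classical
  haveI := hNn
  haveI : Fact r.Prime := ⟨hr⟩
  have hq : ∀ φ : IrrCharacter (G ⧸ N), ¬ r ∣ charDegree (φ : G ⧸ N → ℂ) := by
    intro φ hd
    apply hbad (pull (QuotientGroup.mk' N) (QuotientGroup.mk'_surjective N) φ)
    · intro n hn
      change (φ : G ⧸ N → ℂ) (QuotientGroup.mk' N n) = (φ : G ⧸ N → ℂ) (QuotientGroup.mk' N 1)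
      have h0 : QuotientGroup.mk' N n = 1 := (QuotientGroup.eq_one_iff n).mpr hn
      rw [map_one, h0]
    · change r ∣ charDegree ((φ : G ⧸ N → ℂ) ∘ QuotientGroup.mk' N)
      rwa [charDegree_comp]
  have hmk : Function.Surjective (QuotientGroup.mk' N) := QuotientGroup.mk'_surjective N
  have hRq := sylow_normal_of_not_dvd hr _ (G ⧸ N) rfl inferInstance hq (Sylow.mapSurjective hmk R)
  rw [Sylow.coe_mapSurjective] at hRq
  have h1 := hRq.comap (QuotientGroup.mk' N)
  rwa [Subgroup.comap_map_eq, QuotientGroup.ker_mk'] at h1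

/-- A prime dividing a degree over the quotient divides the order of the quotient. -/
theorem dvd_index_of_rho {N : Subgroup G} (hNn : N.Normal) {s : ℕ} (hs : Rho G s)
    (htriv : ∀ χ : IrrCharacter G, s ∣ charDegree (χ : G → ℂ) → ∀ n ∈ N, (χ : G → ℂ) n = (χ : G → ℂ) 1) :
    s ∣ N.index := by
  classical
  haveI := hNn
  obtain ⟨χ, hχ⟩ := hs
  obtain ⟨φ, hφ⟩ := exists_quot_of_ker χ (htriv χ hχ)
  have h1 : charDegree (χ : G → ℂ) = charDegree (φ : G ⧸ N → ℂ) := by
    rw [hφ, charDegree_comp]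
  rw [h1] at hχ
  have h2 := charDegree_dvd_card φ.2
  rw [← Subgroup.index_eq_card] at h2
  exact hχ.trans h2

/-- **Case I.** -/
theorem case_one {N : Subgroup G} {p q r : ℕ} (C : Ctx G N p q r) {t : ℕ} (ht : t.Prime)
    (hexp : ∀ x ∈ N, x ^ t = 1) (htr : t ≠ r) : False := by
  classical
  haveI := C.solv
  have hN := C.min
  haveI hNn : N.Normal := hN.1
  haveI : Fact r.Prime := ⟨C.hr⟩
  cases nonempty_fintype G
  letI : Fintype N := Fintype.ofFinite N
  have hNc := isMinNormal_comm hN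
  obtain ⟨R⟩ : Nonempty (Sylow r G) := inferInstance
  have hKn := sup_normal hNn C.hr C.hb R
  haveI : ((R : Subgroup G) ⊔ N).Normal := hKn
  -- Frattini
  let H : Subgroup G := normalizer ((R : Subgroup G) : Set G)
  have hRH : (R : Subgroup G) ≤ H := Subgroup.le_normalizer
  have hFr : H ⊔ N = ⊤ := by
    have h1 := Sylow.normalizer_sup_eq_top' R (N := (R : Subgroup G) ⊔ N) le_sup_left
    rw [eq_top_iff, ← h1]
    refine sup_le le_sup_left (sup_le (hRH.trans le_sup_left) le_sup_right)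
  have hmemG : ∀ g : G, ∃ h ∈ H, ∃ n ∈ N, g = h * n := by
    intro g
    have hg : g ∈ H ⊔ N := by rw [hFr]; trivial
    obtain ⟨h, hh, n, hn, rfl⟩ := Subgroup.mem_sup_of_normal_right.mp hg
    exact ⟨h, hh, n, hn, rfl⟩
  have hrd : r ∣ Nat.card G := by
    obtain ⟨χ, hχ⟩ := C.rr
    exact hχ.trans (charDegree_dvd_card χ.2)
  have hNr : ¬ (N : Subgroup G) ≤ (R : Subgroup G) := by
    intro hle
    apply hN.2.1
    rw [eq_bot_iff]
    intro x hx
    rw [Subgroup.mem_bot]
    obtain ⟨k, hk⟩ := Extra.orderOf_sylow R (hle hx)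
    have h1 : orderOf x ∣ t := orderOf_dvd_of_pow_eq_one (hexp x hx)
    have h2 : (orderOf x).Coprime t := by
      rw [hk]
      exact Nat.Coprime.pow_left k ((Nat.coprime_primes C.hr ht).mpr (Ne.symm htr))
    have h3 : orderOf x = 1 := Nat.Coprime.eq_one_of_dvd h2 h1
    exact orderOf_eq_one_iff.mp h3
  -- the intersection is trivial
  have hHN : H ⊓ N = ⊥ := by
    have hDn : (H ⊓ N).Normal := by
      refine ⟨fun x hx g => ?_⟩
      obtain ⟨h, hh, n, hn, rfl⟩ := hmemG g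
      have e : h * n * x * (h * n)⁻¹ = h * x * h⁻¹ := by
        have := hNc n hn x hx.2
        calc h * n * x * (h * n)⁻¹ = h * (n * x) * n⁻¹ * h⁻¹ := by group
          _ = h * (x * n) * n⁻¹ * h⁻¹ := by rw [this]
          _ = h * x * h⁻¹ := by group
      rw [e]
      exact ⟨H.mul_mem (H.mul_mem hh hx.1) (H.inv_mem hh), hNn.conj_mem x hx.2 h⟩
    rcases hN.2.2 _ hDn inf_le_right with h | h
    · exact h
    · exfalso
      have hNH : N ≤ H := inf_eq_right.mp h
      have hHt : H = ⊤ := by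
        rw [← hFr, sup_eq_left.mpr hNH]
      have hRn : (R : Subgroup G).Normal := Subgroup.normalizer_eq_top_iff.mp hHt
      exact hNr (C.uniq _ hRn (Sylow.ne_bot_of_dvd_card R hrd))
  -- the centralizer of `N` is `N`
  have hCN : ∀ c : G, (∀ n ∈ N, c * n = n * c) → c ∈ N := by
    intro c hc
    obtain ⟨h, hh, n, hn, rfl⟩ := hmemG c
    let E : Subgroup G := H ⊓ centralizer ((N : Subgroup G) : Set G)
    have hEn : E.Normal := by
      refine ⟨fun x hx g => ?_⟩
      obtain ⟨h₁, hh₁, n₁, hn₁, rfl⟩ := hmemG g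
      have hxc := Subgroup.mem_centralizer_iff.mp hx.2 n₁ hn₁
      have e : h₁ * n₁ * x * (h₁ * n₁)⁻¹ = h₁ * x * h₁⁻¹ := by
        calc h₁ * n₁ * x * (h₁ * n₁)⁻¹ = h₁ * (n₁ * x) * n₁⁻¹ * h₁⁻¹ := by group
          _ = h₁ * (x * n₁) * n₁⁻¹ * h₁⁻¹ := by rw [hxc]
          _ = h₁ * x * h₁⁻¹ := by group
      rw [e]
      refine ⟨H.mul_mem (H.mul_mem hh₁ hx.1) (H.inv_mem hh₁), Subgroup.mem_centralizer_iff.mpr ?_⟩
      intro m hm
      have hm' : h₁⁻¹ * m * h₁ ∈ N := by simpa using hNn.conj_mem m hm h₁⁻¹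
      have h2 := Subgroup.mem_centralizer_iff.mp hx.2 _ hm'
      calc m * (h₁ * x * h₁⁻¹) = h₁ * ((h₁⁻¹ * m * h₁) * x) * h₁⁻¹ := by group
        _ = h₁ * (x * (h₁⁻¹ * m * h₁)) * h₁⁻¹ := by rw [h2]
        _ = h₁ * x * h₁⁻¹ * m := by group
    have hE : E = ⊥ := by
      by_contra hne
      have hle := C.uniq E hEn hne
      have : N ≤ H ⊓ N := le_inf (hle.trans inf_le_left) le_rfl
      rw [hHN] at this
      exact hN.2.1 (le_bot_iff.mp this)
    have hhE : h ∈ E := by
      refine ⟨hh, Subgroup.mem_centralizer_iff.mpr ?_⟩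
      intro m hm
      have h1 := hc m hm
      have h2 := hNc n hn m hm
      have h3 : h * n * m = h * m * n := by rw [mul_assoc, h2, mul_assoc]
      have h4 : m * h * n = h * m * n := by
        rw [← h3, h1, mul_assoc]
      exact (mul_right_cancel h4)
    rw [hE, Subgroup.mem_bot] at hhE
    rw [hhE, one_mul]
    exact hn
  -- the retraction
  let ψ : H →* (G ⧸ N) := (QuotientGroup.mk' N).comp H.subtype
  have hψinj : Function.Injective ψ := by
    rw [injective_iff_map_eq_one]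
    intro h hh
    have h1 : (h : G) ∈ N := (QuotientGroup.eq_one_iff _).mp hh
    have h2 : (h : G) ∈ H ⊓ N := ⟨h.2, h1⟩
    rw [hHN, Subgroup.mem_bot] at h2
    exact Subtype.ext h2
  have hψsurj : Function.Surjective ψ := by
    intro x
    obtain ⟨g, rfl⟩ := QuotientGroup.mk'_surjective N x
    obtain ⟨h, hh, n, hn, rfl⟩ := hmemG g
    refine ⟨⟨h, hh⟩, ?_⟩
    have h0 : QuotientGroup.mk' N n = 1 := (QuotientGroup.eq_one_iff n).mpr hn
    change QuotientGroup.mk' N h = _
    rw [map_mul, h0, mul_one]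
  let e : H ≃* (G ⧸ N) := MulEquiv.ofBijective ψ ⟨hψinj, hψsurj⟩
  let π : G →* H := (e.symm : (G ⧸ N) →* H).comp (QuotientGroup.mk' N)
  have hπmk : ∀ g : G, QuotientGroup.mk' N ((π g : H) : G) = QuotientGroup.mk' N g := by
    intro g
    exact e.apply_symm_apply (QuotientGroup.mk' N g)
  have hnmem : ∀ g : G, g * ((π g : H) : G)⁻¹ ∈ N := by
    intro g
    rw [← QuotientGroup.eq_one_iff]
    change QuotientGroup.mk' N (g * ((π g : H) : G)⁻¹) = 1
    rw [map_mul, map_inv, hπmk, mul_inv_cancel]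
  have hπN : ∀ n ∈ N, π n = 1 := by
    intro n hn
    have h0 : QuotientGroup.mk' N n = 1 := (QuotientGroup.eq_one_iff n).mpr hn
    change e.symm (QuotientGroup.mk' N n) = 1
    rw [h0, map_one]
  -- Lemma T
  have hN0 : ∀ ν : N →* ℂˣ, N ≤ stabHom N ν := by
    intro ν x hx a
    apply congrArg ν
    apply Subtype.ext
    have h1 := hNc x hx a a.2
    change x * a * x⁻¹ = a
    rw [h1]
    group
  have hfib : ∀ s : ℕ, NoPair G s r → ∀ ν : N →* ℂˣ, ν ≠ 1 → ¬ s ∣ (stabHom N ν).index ∧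
      ∀ (X : Type u) [Group X] [Finite X] (f : stabHom N ν →* X), Function.Surjective f →
        (∀ x : stabHom N ν, (x : G) ∈ N → f x = 1) →
        ∀ β : IrrCharacter X, ¬ s ∣ charDegree (β : X → ℂ) := by
    intro s hns ν hν
    letI : Fintype (stabHom N ν) := Fintype.ofFinite _
    set T := stabHom N ν with hT
    have hπT : ∀ x : T, ((π x : H) : G) ∈ T := by
      intro x
      have h1 := hnmem x
      have h2 : ((π x : H) : G) = (x * ((π x : H) : G)⁻¹)⁻¹ * x := by group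
      rw [h2]
      exact T.mul_mem (T.inv_mem (hN0 ν h1)) x.2
    let lam : T →* ℂˣ :=
      { toFun := fun x => ν ⟨x * ((π x : H) : G)⁻¹, hnmem x⟩
        map_one' := by
          have e : (⟨((1 : T) : G) * ((π ((1 : T) : G) : H) : G)⁻¹, hnmem _⟩ : N) = 1 :=
            Subtype.ext (by simp)
          rw [e, map_one]
        map_mul' := by
          intro x y
          have hxT := hπT x
          have h3 := hxT ⟨_, hnmem y⟩
          rw [← h3, ← map_mul]
          apply congrArg ν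
          apply Subtype.ext
          simp only [Subgroup.coe_mul, map_mul, mul_inv_rev, MulAut.conjNormal_apply]
          group }
    have hres : res (hN0 ν) (fun x : T => ((lam x : ℂˣ) : ℂ)) = fun a : N => ((ν a : ℂˣ) : ℂ) := by
      funext n
      have e : (⟨(n : G) * ((π (n : G) : H) : G)⁻¹, hnmem _⟩ : N) = n :=
        Subtype.ext (by simp [hπN n n.2])
      change ((ν ⟨(n : G) * ((π (n : G) : H) : G)⁻¹, hnmem _⟩ : ℂˣ) : ℂ) = _
      rw [e]
    refine fiber_of_ext hNn (isIrrCharacter_of_hom ν) (hN0 ν) (inertia_lin hNn ν).symm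
      (isIrrCharacter_of_hom lam) hres ?_ hns
    intro χ hχ
    apply C.hk
    obtain ⟨n, hn⟩ : ∃ n, ν n ≠ 1 := by
      by_contra hcon
      push Not at hcon
      exact hν (MonoidHom.ext hcon)
    refine ⟨n, n.2, fun h => hn ?_⟩
    exact lin_eq_one_of_ker (isCharacter_of_isIrrCharacter χ.2) ν hχ h
  have hT := lemmaT hN C.hp C.hq C.hpq C.npq (R₀ := N) (fun x hx n hn => hNc x hx n hn) (by
    rintro s (rfl | rfl) ν hν
    · exact hfib _ C.npr ν hν
    · exact hfib _ C.nqr ν hν)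
  have hfin : ∀ s : ℕ, Fact s.Prime → NoPair G s r → Rho G s →
      (∀ P : Sylow s G, ∀ x ∈ (P : Subgroup G), ∀ n ∈ N, x * n = n * x) → False := by
    intro s _ hns hrs hall
    have h1 : s ∣ N.index := by
      apply dvd_index_of_rho hNn hrs
      intro χ hχ
      by_contra hcon
      push Not at hcon
      exact hns χ hχ (C.hk χ hcon)
    obtain ⟨P⟩ : Nonempty (Sylow s G) := inferInstance
    have h2 : (P : Subgroup G) ≤ N := fun x hx => hCN x (hall P x hx)
    exact P.not_dvd_index (h1.trans (Subgroup.index_dvd_of_le h2))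
  rcases hT with h | h
  · exact hfin p ⟨C.hp⟩ C.npr C.rp h
  · exact hfin q ⟨C.hq⟩ C.nqr C.rq h

end Cfsg.Agent.Lib.Palfy.CaseOne
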