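import Cfsg.Agent.Lib.Palfy.Moved
import Cfsg.Agent.Lib.CharDeg.ThreeDeg.Lift
import Cfsg.Agent.Lib.Core.PSolvable2

/-!
# The action on linear characters of a normal subgroup, and good stabilizers
-/

set_option autoImplicit false
set_option linter.unusedSectionVars false
set_option linter.style.haveILetI false
set_option linter.deprecated false

namespace Cfsg.Agent.Lib.Palfy.DualAct

open Cfsg Cfsg.Agent.Lib.Palfy.Spread
open Cfsg.Agent.Lib.Char.Basic Cfsg.Agent.Lib.Char.Ortho Cfsg.Agent.Lib.Char.Complete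
open Cfsg.Agent.Lib.Char.Conj Cfsg.Agent.Lib.Char.Degree
open Cfsg.Agent.Lib.Char.Clifford Cfsg.Agent.Lib.Char.CliffordCorr

universe u

variable {G : Type u} [Group G] [Finite G] {A : Subgroup G} (hA : A.Normal)

/-- The linear character as a complex function. -/
def linChar {R : Type*} [Group R] (μ : R →* ℂˣ) : R → ℂ := fun u => ((μ u : ℂˣ) : ℂ)

@[simp] theorem linChar_apply {R : Type*} [Group R] (μ : R →* ℂˣ) (u : R) :
    linChar μ u = ((μ u : ℂˣ) : ℂ) := rfl

theorem linChar_injective {R : Type*} [Group R] : Function.Injective (linChar (R := R)) := by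
  intro μ ν h
  ext u
  exact congrFun h u

theorem isIrr_linChar {R : Type*} [Group R] [Finite R] (μ : R →* ℂˣ) :
    IsIrrCharacter R (linChar μ) := Cfsg.Agent.Lib.Char.Linear.isIrrCharacter_of_hom μ

theorem linChar_one {R : Type*} [Group R] (μ : R →* ℂˣ) : linChar μ 1 = 1 := by simp

/-- The group acts on the linear characters of a normal subgroup. -/
def dualAct : G →* MulAut (A →* ℂˣ) where
  toFun g :=
    { toFun := fun μ => μ.comp (conjEquiv hA g⁻¹).toMonoidHom
      invFun := fun μ => μ.comp (conjEquiv hA g).toMonoidHom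
      left_inv := by
        intro μ
        ext u
        simp only [MonoidHom.comp_apply]
        congr 3
        apply Subtype.ext
        simp [conjEquiv]
      right_inv := by
        intro μ
        ext u
        simp only [MonoidHom.comp_apply]
        congr 3
        apply Subtype.ext
        simp [conjEquiv]
      map_mul' := by
        intro a b
        ext u
        simp }
  map_one' := by
    ext μ u
    show ((μ ((conjEquiv hA (1 : G)⁻¹) u) : ℂˣ) : ℂ) = ((μ u : ℂˣ) : ℂ)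
    congr 2
    apply Subtype.ext
    simp
  map_mul' := by
    intro a b
    ext μ u
    show ((μ ((conjEquiv hA (a * b)⁻¹) u) : ℂˣ) : ℂ) =
      ((μ (conjEquiv hA b⁻¹ (conjEquiv hA a⁻¹ u)) : ℂˣ) : ℂ)
    congr 2
    apply Subtype.ext
    simp
    group

theorem dualAct_apply (g : G) (μ : A →* ℂˣ) (u : A) :
    dualAct hA g μ u = μ ⟨g⁻¹ * u * g⁻¹⁻¹, hA.conj_mem u u.2 g⁻¹⟩ := rfl

theorem dualAct_apply' (g : G) (μ : A →* ℂˣ) (u : A) (h : g⁻¹ * u * g ∈ A) :
    dualAct hA g μ u = μ ⟨g⁻¹ * u * g, h⟩ := by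
  rw [dualAct_apply]
  congr 2
  simp

theorem linChar_dualAct (g : G) (μ : A →* ℂˣ) :
    linChar (dualAct hA g μ) = conjOn hA g⁻¹ (linChar μ) := rfl

theorem mem_inertia_iff (g : G) (μ : A →* ℂˣ) :
    g ∈ inertia hA (linChar μ) ↔ dualAct hA g μ = μ := by
  constructor
  · intro h
    apply linChar_injective
    rw [linChar_dualAct]
    exact (inertia hA (linChar μ)).inv_mem h
  · intro h
    have h1 : conjOn hA g⁻¹ (linChar μ) = linChar μ := by
      rw [← linChar_dualAct, h]
    have h2 : g⁻¹ ∈ inertia hA (linChar μ) := h1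
    simpa using (inertia hA (linChar μ)).inv_mem h2

section quotient

variable {N : Subgroup G} [hN : N.Normal]

/-- The action descended to a quotient. -/
def dualActQ (hNA : ∀ n ∈ N, ∀ μ : A →* ℂˣ, dualAct hA n μ = μ) : (G ⧸ N) →* MulAut (A →* ℂˣ) :=
  QuotientGroup.lift N (dualAct hA) (by
    intro n hn
    ext μ u
    rw [hNA n hn μ]
    rfl)

theorem dualActQ_mk (hNA : ∀ n ∈ N, ∀ μ : A →* ℂˣ, dualAct hA n μ = μ) (g : G) :
    dualActQ hA hNA (g : G ⧸ N) = dualAct hA g := rfl

theorem stab_dualActQ (hNA : ∀ n ∈ N, ∀ μ : A →* ℂˣ, dualAct hA n μ = μ)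
    (μ : A →* ℂˣ) :
    stab (dualActQ hA hNA) μ = (inertia hA (linChar μ)).map (QuotientGroup.mk' N) := by
  ext x
  obtain ⟨g, rfl⟩ := QuotientGroup.mk_surjective x
  rw [mem_stab, dualActQ_mk, Subgroup.mem_map]
  constructor
  · intro h
    exact ⟨g, (mem_inertia_iff hA g μ).mpr h, rfl⟩
  · rintro ⟨g', hg', hgg'⟩
    have h1 : dualAct hA g' μ = μ := (mem_inertia_iff hA g' μ).mp hg'
    have h2 : (g : G ⧸ N) = (g' : G ⧸ N) := hgg'.symm
    rw [← dualActQ_mk hA hNA g, h2, dualActQ_mk]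
    exact h1

end quotient

section good

variable [Group.IsSolvable G] {N : Subgroup G}

/-- A stabilizer is good: Gallagher, Clifford and Ito-Michler. -/
theorem good_of_ext (hN : N.Normal) [Fintype N] {θ : N → ℂ} (hθ : IsIrrCharacter N θ)
    {T : Subgroup G} (hNT : N ≤ T) (hT : T = inertia hN θ)
    {ψ : T → ℂ} (hψ : IsIrrCharacter T ψ) (hext : ∀ n : N, ψ ⟨n, hNT n.2⟩ = θ n)
    {x : ℕ} [Fact x.Prime]
    (hx : ∀ χ : IrrCharacter G, classInner (fun n : N => (χ : G → ℂ) n) θ ≠ 0 →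
      ¬ x ∣ charDegree (χ : G → ℂ)) :
    haveI := hN
    GoodAt (G ⧸ N) x (T.map (QuotientGroup.mk' N)) := by
  classical
  haveI := hN
  letI := Fintype.ofFinite G
  letI : Fintype T := Fintype.ofFinite _
  have hxp : x.Prime := Fact.out
  set π := QuotientGroup.mk' N with hπ
  set S := T.map π with hS
  let f : T →* S := π.subgroupMap T
  have hf : Function.Surjective f := π.subgroupMap_surjective T
  obtain ⟨e, he0, he⟩ := exists_pos_deg_of_isIrr hθ
  -- the characters above
  have key : ∀ β₀ : S → ℂ, IsIrrCharacter S β₀ → ¬ x ∣ T.index * charDegree β₀ := by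
    intro β₀ hβ₀ hdvd
    have hβ : IsIrrCharacter T (β₀ ∘ f) := isIrrCharacter_comp f hf hβ₀
    have hβN : ∀ n : N, (β₀ ∘ f) ⟨n, hNT n.2⟩ = (β₀ ∘ f) 1 := by
      intro n
      have h1 : f ⟨n, hNT n.2⟩ = 1 := by
        apply Subtype.ext
        exact (QuotientGroup.eq_one_iff (n : G)).mpr n.2
      simp only [Function.comp_apply, map_one, h1]
    obtain ⟨χ, hχ, hχc, hχ1⟩ :=
      Cfsg.Agent.Lib.CharDeg.ThreeDeg.Lift.exists_irr_of_ext hN hθ hNT hT hψ hext hβ hβN
    obtain ⟨d, hd0, hd⟩ := exists_pos_deg_of_isIrr hβ₀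
    have hβ1 : (β₀ ∘ f) 1 = d := by
      simp only [Function.comp_apply, map_one, hd]
    rw [hβ1, he] at hχ1
    have hdeg : charDegree χ = T.index * (d * e) := by
      apply charDegree_eq_of_eq_natCast
      rw [hχ1]
      push_cast
      ring
    have hdβ : charDegree β₀ = d := charDegree_eq_of_eq_natCast hd
    apply hx ⟨χ, hχ⟩ hχc
    show x ∣ charDegree χ
    rw [hdeg, ← hdβ]
    exact (hdvd.trans (Dvd.intro _ rfl)).trans (by rw [mul_assoc])
  have hone : IsIrrCharacter S (fun _ => (1 : ℂ)) :=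
    Cfsg.Agent.Lib.Char.Linear.isIrrCharacter_of_deg_one isCharacter_one rfl
  have hxT : ¬ x ∣ T.index := by
    intro h
    exact key _ hone (h.trans (Dvd.intro _ rfl))
  have hxβ : ∀ χ : IrrCharacter S, ¬ x ∣ charDegree (χ : S → ℂ) := by
    intro χ h
    exact key _ χ.2 (h.trans (Dvd.intro_left _ rfl))
  obtain ⟨P₀⟩ : Nonempty (Sylow x S) := inferInstance
  have hsolv : IsPSolvable x S := Cfsg.Agent.Lib.Core.PSolvable2.isPSolvable_of_isSolvable
  obtain ⟨hP₀n, hP₀c⟩ := (Cfsg.Agent.Lib.Blk89.ItoMichler.normal_comm_iff x hsolv P₀).mpr hxβ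
  have hP' : IsPGroup x ((P₀ : Subgroup S).map S.subtype) := P₀.isPGroup'.map _
  have hSidx : S.index = T.index := by
    rw [hS, Subgroup.index_map, (QuotientGroup.range_mk' N), Subgroup.index_top, mul_one,
      QuotientGroup.ker_mk', sup_eq_left.mpr hNT]
  have hP'idx : ¬ x ∣ ((P₀ : Subgroup S).map S.subtype).index := by
    rw [Subgroup.index_map_subtype, hSidx]
    intro h
    rcases hxp.dvd_mul.mp h with h | h
    · exact P₀.not_dvd_index h
    · exact hxT h
  refine ⟨hP'.toSylow hP'idx, ?_, ?_, ?_⟩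
  · rw [IsPGroup.toSylow_coe]
    rintro _ ⟨a, -, rfl⟩
    exact a.2
  · rw [IsPGroup.toSylow_coe]
    have h1 := Subgroup.le_normalizer_map (H := (P₀ : Subgroup S)) S.subtype
    rw [Subgroup.normalizer_eq_top_iff.mpr hP₀n] at h1
    intro s hs
    exact h1 ⟨⟨s, hs⟩, trivial, rfl⟩
  · rw [IsPGroup.toSylow_coe]
    rintro _ ⟨a, ha, rfl⟩ _ ⟨b, hb, rfl⟩
    have h1 := congrArg Subtype.val (hP₀c.is_comm.comm ⟨a, ha⟩ ⟨b, hb⟩)
    exact congrArg Subtype.val h1

/-- The coprime case: an invariant character extends. -/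
theorem good_of_coprime (hN : N.Normal) [Fintype N] (hcop : (Nat.card N).Coprime N.index)
    {θ : N → ℂ} (hθ : IsIrrCharacter N θ) {x : ℕ} [Fact x.Prime]
    (hx : ∀ χ : IrrCharacter G, classInner (fun n : N => (χ : G → ℂ) n) θ ≠ 0 →
      ¬ x ∣ charDegree (χ : G → ℂ)) :
    haveI := hN
    GoodAt (G ⧸ N) x ((inertia hN θ).map (QuotientGroup.mk' N)) := by
  classical
  haveI := hN
  letI := Fintype.ofFinite G
  set T := inertia hN θ with hT
  letI : Fintype T := Fintype.ofFinite _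
  have hNT : N ≤ T := le_inertia hN (isClassFunction_of_isIrrCharacter hθ)
  let N' : Subgroup T := N.subgroupOf T
  haveI hN' : N'.Normal := hN.subgroupOf T
  letI : Fintype N' := Fintype.ofFinite _
  let eqv : N' ≃* N := Subgroup.subgroupOfEquivOfLe hNT
  have hθ' : IsIrrCharacter N' (θ ∘ eqv) := isIrrCharacter_comp_mulEquiv eqv hθ
  have hinv : ∀ c : T, conjOn hN' c (θ ∘ eqv) = θ ∘ eqv := by
    intro c
    have h1 : conjOn hN (c : G) θ = θ := c.2
    funext n
    have h2 := congrFun h1 (eqv n)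
    exact h2
  have hcop' : (Nat.card N').Coprime N'.index := by
    have h1 : Nat.card N' = Nat.card N := Nat.card_congr eqv.toEquiv
    have h2 : N'.index ∣ N.index := Subgroup.relIndex_dvd_index_of_normal N T
    rw [h1]
    exact Nat.Coprime.coprime_dvd_right h2 hcop
  obtain ⟨ψ, hψ, hψe⟩ := Cfsg.Agent.Lib.OddChar.Inertia.exists_ext_of_coprime hN' hθ' hinv hcop'
  refine good_of_ext hN hθ hNT rfl hψ ?_ hx
  intro n
  have h1 := hψe ⟨⟨n, hNT n.2⟩, by simpa [N', Subgroup.mem_subgroupOf] using n.2⟩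
  exact h1

end good

end Cfsg.Agent.Lib.Palfy.DualAct
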