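import Cfsg.Agent.Lib.Solvable.Fitting

/-!
# Commuting abelian Sylow subgroups in a solvable group

If the Sylow `p`- and `q`-subgroups `P`, `Q` of a finite solvable group are abelian and commute
elementwise then `O_{p'} ∩ O_{q'}` conjugates transitively both families of Sylow subgroups.
-/

set_option autoImplicit false
set_option linter.unusedSectionVars false

namespace Cfsg.Agent.Lib.Palfy.KCore

open Cfsg Cfsg.Agent.Lib.Core.Basic Cfsg.Agent.Lib.Solvable.Fitting
open scoped Pointwise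

variable {Γ : Type*} [Group Γ] [Finite Γ] [Group.IsSolvable Γ]

/-- A Sylow `p`-subgroup commuting with a Sylow `q`-subgroup lies in `O_{q'}`. -/
theorem le_pPrimeCore_of_commute {p q : ℕ} [Fact p.Prime] [Fact q.Prime] (hpq : p ≠ q)
    (P : Sylow p Γ) (Q : Sylow q Γ)
    (hc : ∀ x ∈ (P : Subgroup Γ), ∀ y ∈ (Q : Subgroup Γ), x * y = y * x) :
    (P : Subgroup Γ) ≤ pPrimeCore q Γ := by
  classical
  set K := pPrimeCore q Γ with hK
  have hKn : K.Normal := inferInstance
  let f := QuotientGroup.mk' K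
  have hf : Function.Surjective f := QuotientGroup.mk'_surjective K
  have h1 : pPrimeCore q (Γ ⧸ K) = ⊥ := pPrimeCore_quotient_eq_bot
  have h2 := centralizer_pCore_le (G := Γ ⧸ K) q h1
  let Q' : Sylow q (Γ ⧸ K) := Q.mapSurjective hf
  have hQ' : (Q' : Subgroup (Γ ⧸ K)) = (Q : Subgroup Γ).map f := Sylow.coe_mapSurjective _ _
  have h3 : pCore q (Γ ⧸ K) ≤ Q' := pCore_le_sylow Q'
  intro x hx
  have h4 : f x ∈ Subgroup.centralizer (pCore q (Γ ⧸ K) : Set (Γ ⧸ K)) := by
    rw [Subgroup.mem_centralizer_iff]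
    intro y hy
    have hy' := h3 hy
    rw [hQ'] at hy'
    obtain ⟨v, hv, rfl⟩ := hy'
    rw [← map_mul, ← map_mul, hc x hx v hv]
  have h5 := h2 h4
  obtain ⟨k, hk⟩ := P.isPGroup' ⟨x, hx⟩
  obtain ⟨m, hm⟩ := (pCore_isPGroup (p := q) (G := Γ ⧸ K)) ⟨f x, h5⟩
  have hk' : f x ^ p ^ k = 1 := by
    have := congrArg (fun z : (P : Subgroup Γ) => f (z : Γ)) hk
    simpa using this
  have hm' : f x ^ q ^ m = 1 := by
    have := congrArg (fun z : (pCore q (Γ ⧸ K)) => (z : Γ ⧸ K)) hm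
    simpa using this
  have h6 : orderOf (f x) ∣ Nat.gcd (p ^ k) (q ^ m) :=
    Nat.dvd_gcd (orderOf_dvd_of_pow_eq_one hk') (orderOf_dvd_of_pow_eq_one hm')
  have h7 : Nat.gcd (p ^ k) (q ^ m) = 1 :=
    Nat.Coprime.pow _ _ ((Nat.coprime_primes Fact.out Fact.out).mpr hpq)
  rw [h7, Nat.dvd_one, orderOf_eq_one_iff] at h6
  exact (QuotientGroup.eq_one_iff x).mp h6

/-- In `P ⊔ K`, `K` normal, all Sylow subgroups of the ambient group are `K`-conjugate to `P`. -/
theorem exists_conj_of_sup_normal {p : ℕ} [Fact p.Prime] (P : Sylow p Γ) (K : Subgroup Γ) [hK : K.Normal]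
    (hN : ((P : Subgroup Γ) ⊔ K).Normal) (P' : Sylow p Γ) : ∃ k ∈ K, k • P = P' := by
  classical
  obtain ⟨g, rfl⟩ := MulAction.exists_smul_eq Γ P P'
  set N := (P : Subgroup Γ) ⊔ K with hNdef
  have h1 : (P : Subgroup Γ) ≤ N := le_sup_left
  have h2 : ((g • P : Sylow p Γ) : Subgroup Γ) ≤ N := by
    intro x hx
    rw [Sylow.coe_subgroup_smul, Subgroup.mem_pointwise_smul_iff_inv_smul_mem] at hx
    have h3 := hN.conj_mem _ (h1 hx) g
    simpa [MulAut.smul_def, MulAut.conj_apply, MulAut.conj_inv_apply, mul_assoc] using h3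
  let P₁ : Sylow p N := P.subtype h1
  let P₂ : Sylow p N := (g • P).subtype h2
  obtain ⟨n, hn⟩ := MulAction.exists_smul_eq N P₁ P₂
  have hn' : ((n : Γ) • P : Sylow p Γ) = g • P := by
    have hle : (((n : Γ) • P : Sylow p Γ) : Subgroup Γ) ≤ ((g • P : Sylow p Γ) : Subgroup Γ) := by
      intro x hx
      rw [Sylow.coe_subgroup_smul, Subgroup.mem_pointwise_smul_iff_inv_smul_mem] at hx
      have hx' : (n : Γ)⁻¹ * x * (n : Γ) ∈ (P : Subgroup Γ) := by
        simpa [MulAut.smul_def, MulAut.conj_apply, MulAut.conj_inv_apply, mul_assoc] using hx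
      have hxN : x ∈ N := by
        have := N.mul_mem (N.mul_mem n.2 (h1 hx')) (N.inv_mem n.2)
        simpa [mul_assoc] using this
      have hmem : ((n : N)⁻¹ * ⟨x, hxN⟩ * n : N) ∈ (P₁ : Subgroup N) := by
        rw [show (P₁ : Subgroup N) = (P : Subgroup Γ).subgroupOf N from Sylow.coe_subtype _ _,
          Subgroup.mem_subgroupOf]
        simpa using hx'
      have h5 : (⟨x, hxN⟩ : N) ∈ (P₂ : Subgroup N) := by
        rw [← hn, Sylow.coe_subgroup_smul, Subgroup.mem_pointwise_smul_iff_inv_smul_mem]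
        simpa [MulAut.smul_def, MulAut.conj_apply, MulAut.conj_inv_apply, mul_assoc] using hmem
      rw [show (P₂ : Subgroup N) = ((g • P : Sylow p Γ) : Subgroup Γ).subgroupOf N from
        Sylow.coe_subtype _ _, Subgroup.mem_subgroupOf] at h5
      exact h5
    have := ((n : Γ) • P : Sylow p Γ).is_maximal' (g • P : Sylow p Γ).isPGroup' hle
    exact (Sylow.ext this).symm
  have hmemN : (n : Γ) ∈ (K ⊔ (P : Subgroup Γ)) := by
    rw [sup_comm]
    exact n.2
  have hset : (n : Γ) ∈ ((K ⊔ (P : Subgroup Γ) : Subgroup Γ) : Set Γ) := hmemN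
  rw [Subgroup.normal_mul] at hset
  obtain ⟨k, hk, u, hu, hku⟩ := Set.mem_mul.mp hset
  refine ⟨k, hk, ?_⟩
  rw [← hn', ← hku, mul_smul]
  congr 1
  exact (Sylow.smul_eq_iff_mem_normalizer.mpr (Subgroup.le_normalizer hu)).symm

/-- The core of the situation. -/
theorem exists_core {p q : ℕ} [Fact p.Prime] [Fact q.Prime] (hpq : p ≠ q)
    (P : Sylow p Γ) (Q : Sylow q Γ)
    (hc : ∀ x ∈ (P : Subgroup Γ), ∀ y ∈ (Q : Subgroup Γ), x * y = y * x)
    (hP : ∀ x ∈ (P : Subgroup Γ), ∀ y ∈ (P : Subgroup Γ), x * y = y * x)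
    (hQ : ∀ x ∈ (Q : Subgroup Γ), ∀ y ∈ (Q : Subgroup Γ), x * y = y * x) :
    ∃ K : Subgroup Γ, K.Normal ∧ (Nat.card K).Coprime p ∧ (Nat.card K).Coprime q ∧
      (∀ P' : Sylow p Γ, ∃ k ∈ K, k • P = P') ∧ (∀ Q' : Sylow q Γ, ∃ k ∈ K, k • Q = Q') := by
  classical
  set A := pPrimeCore p Γ with hA
  set B := pPrimeCore q Γ with hB
  have hAn : A.Normal := inferInstance
  have hBn : B.Normal := inferInstance
  have hPB : (P : Subgroup Γ) ≤ B := le_pPrimeCore_of_commute hpq P Q hc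
  have hQA : (Q : Subgroup Γ) ≤ A :=
    le_pPrimeCore_of_commute hpq.symm Q P (fun x hx y hy => (hc y hy x hx).symm)
  have hPA : ((P : Subgroup Γ) ⊔ A).Normal := sup_pPrimeCore_normal_of_abelian p P hP
  have hQB : ((Q : Subgroup Γ) ⊔ B).Normal := sup_pPrimeCore_normal_of_abelian q Q hQ
  let K : Subgroup Γ := A ⊓ B
  have hKn : K.Normal := inferInstance
  have aux : ∀ (R C D : Subgroup Γ) [C.Normal] [D.Normal], R ≤ D → (R ⊔ C).Normal →
      (R ⊔ (C ⊓ D)).Normal := by
    intro R C D _ _ hRD hRC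
    have he : R ⊔ (C ⊓ D) = (R ⊔ C) ⊓ D := by
      apply le_antisymm
      · exact sup_le (le_inf le_sup_left hRD) (le_inf (inf_le_left.trans le_sup_right) inf_le_right)
      · rintro x ⟨hx1, hx2⟩
        have hset : x ∈ ((R ⊔ C : Subgroup Γ) : Set Γ) := hx1
        rw [Subgroup.mul_normal] at hset
        obtain ⟨u, hu, c, hc', rfl⟩ := Set.mem_mul.mp hset
        have hcD : c ∈ D := by
          have := D.mul_mem (D.inv_mem (hRD hu)) hx2
          simpa using this
        exact Subgroup.mul_mem_sup hu ⟨hc', hcD⟩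
    rw [he]
    exact Subgroup.normal_inf_normal _ _
  have hcopA : (Nat.card K).Coprime p := Nat.Coprime.coprime_dvd_left
    (Subgroup.card_dvd_of_le inf_le_left) pPrimeCore_coprime
  have hcopB : (Nat.card K).Coprime q := Nat.Coprime.coprime_dvd_left
    (Subgroup.card_dvd_of_le inf_le_right) pPrimeCore_coprime
  refine ⟨K, hKn, hcopA, hcopB, ?_, ?_⟩
  · exact exists_conj_of_sup_normal P K (aux _ A B hPB hPA)
  · have : ((Q : Subgroup Γ) ⊔ K).Normal := by
      have h := aux (Q : Subgroup Γ) B A hQA hQB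
      rwa [inf_comm] at h
    exact exists_conj_of_sup_normal Q K this

end Cfsg.Agent.Lib.Palfy.KCore
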