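import Cfsg.Agent.Lib.Palfy.Dual

/-!
# Application of Theorem Z to the dual of a minimal normal subgroup
-/

set_option autoImplicit false
set_option linter.unusedSectionVars false
set_option linter.unusedVariables false

namespace Cfsg.Agent.Lib.Palfy.LemmaT

open scoped Pointwise ComplexConjugate commutatorElement
open Cfsg Subgroup
open Cfsg.Agent.Lib.Char.Basic Cfsg.Agent.Lib.Char.Ortho Cfsg.Agent.Lib.Char.Complete
  Cfsg.Agent.Lib.Char.Clifford Cfsg.Agent.Lib.Char.CliffordCorr Cfsg.Agent.Lib.Char.Conj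
  Cfsg.Agent.Lib.Char.Degree Cfsg.Agent.Lib.Char.Linear Cfsg.Agent.Lib.CharDeg.SmallDegree
  Cfsg.Agent.Lib.CharDeg.ItoMichlerSolv Cfsg.Agent.Lib.Solvable.Basic
  Cfsg.Agent.Lib.Palfy.Uniq Cfsg.Agent.Lib.Palfy.ThmZ Cfsg.Agent.Lib.Palfy.Red
  Cfsg.Agent.Lib.Palfy.Dual

universe u

/-- Automorphisms act on the dual. -/
instance dualAct (A : Type u) [Group A] : DistribMulAction (MulAut A) (Additive (A →* ℂˣ)) where
  smul α μ := Additive.ofMul ((Additive.toMul μ).comp (α⁻¹ : MulAut A).toMonoidHom)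
  one_smul μ := by
    apply Additive.toMul.injective
    ext a
    rfl
  mul_smul α β μ := by
    apply Additive.toMul.injective
    ext a
    rfl
  smul_zero α := by
    apply Additive.toMul.injective
    ext a
    rfl
  smul_add α μ₁ μ₂ := by
    apply Additive.toMul.injective
    ext a
    rfl

theorem dual_smul_apply {A : Type u} [Group A] (α : MulAut A) (μ : Additive (A →* ℂˣ)) (a : A) :
    Additive.toMul (α • μ) a = Additive.toMul μ (α⁻¹ a) := rfl

variable {G : Type u} [Group G] [Finite G]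

/-- **Lemma T.** -/
theorem lemmaT [Group.IsSolvable G] {N : Subgroup G} [hNn : N.Normal] (hN : IsMinNormal N) {p q : ℕ}
    (hp : p.Prime) (hq : q.Prime) (hpq : p ≠ q) (hnp : NoPair G p q) {R₀ : Subgroup G}
    (hR₀ : ∀ x ∈ R₀, ∀ n ∈ N, x * n = n * x)
    (hU : ∀ s : ℕ, (s = p ∨ s = q) → ∀ ν : N →* ℂˣ, ν ≠ 1 → ¬ s ∣ (stabHom N ν).index ∧
      ∀ (X : Type u) [Group X] [Finite X] (f : stabHom N ν →* X), Function.Surjective f →
        (∀ x : stabHom N ν, (x : G) ∈ R₀ → f x = 1) →
        ∀ β : IrrCharacter X, ¬ s ∣ charDegree (β : X → ℂ)) :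
    (∀ P : Sylow p G, ∀ x ∈ (P : Subgroup G), ∀ n ∈ N, x * n = n * x) ∨
      (∀ P : Sylow q G, ∀ x ∈ (P : Subgroup G), ∀ n ∈ N, x * n = n * x) := by
  classical
  by_contra hcon
  rw [not_or] at hcon
  obtain ⟨hconp, hconq⟩ := hcon
  haveI : Fact p.Prime := ⟨hp⟩
  haveI : Fact q.Prime := ⟨hq⟩
  have hNc : ∀ a b : N, a * b = b * a := fun a b =>
    Subtype.ext (isMinNormal_comm hN a a.2 b b.2)
  let c : G →* MulAut N := MulAut.conjNormal
  let Hb : Subgroup (MulAut N) := c.range
  let π : G →* Hb := c.rangeRestrict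
  have hπ : Function.Surjective π := c.rangeRestrict_surjective
  haveI : Finite Hb := Finite.of_surjective π hπ
  haveI hsolv : Group.IsSolvable Hb := Group.isSolvable_of_surjective hπ
  haveI : Finite (N →* ℂˣ) := dual_finite hNc
  haveI : Finite (Additive (N →* ℂˣ)) := inferInstanceAs (Finite (N →* ℂˣ))
  haveI hfaith : FaithfulSMul Hb (Additive (N →* ℂˣ)) := by
    refine ⟨fun {α β} h => ?_⟩
    have hinv : (α : MulAut N)⁻¹ = (β : MulAut N)⁻¹ := by
      ext b
      by_contra hne
      have hne2 : ((α : MulAut N)⁻¹ b) ≠ ((β : MulAut N)⁻¹ b) := fun h' => hne (by rw [h'])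
      have hx : ((α : MulAut N)⁻¹ b) * ((β : MulAut N)⁻¹ b)⁻¹ ≠ 1 := fun h' => hne2 (mul_inv_eq_one.mp h')
      obtain ⟨ν, hν⟩ := sep hNc hx
      apply hν
      have h2 := congrArg (fun μ : Additive (N →* ℂˣ) => Additive.toMul μ b) (h (Additive.ofMul ν))
      change ν ((α : MulAut N)⁻¹ b) = ν ((β : MulAut N)⁻¹ b) at h2
      rw [map_mul, map_inv, h2, mul_inv_cancel]
    exact Subtype.ext (inv_injective hinv)
  haveI hnontriv : Nontrivial (Additive (N →* ℂˣ)) := by
    obtain ⟨⟨n, hn⟩, hn1⟩ := (Subgroup.ne_bot_iff_exists_ne_one (H := N)).mp hN.2.1 |>.imp (fun _ h => h)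
    obtain ⟨ν, hν⟩ := sep hNc (a := ⟨n, hn⟩) hn1
    refine ⟨⟨Additive.ofMul ν, 0, fun h => hν ?_⟩⟩
    have h2 : ν = 1 := Additive.ofMul.injective h
    rw [h2]
    rfl
  have hsmul : ∀ (g : G) (μ : Additive (N →* ℂˣ)) (n : N),
      Additive.toMul (π g • μ) n = Additive.toMul μ ⟨g⁻¹ * n * g, by
        simpa using hNn.conj_mem n n.2 g⁻¹⟩ := by
    intro g μ n
    have h1 : (π g • μ) = (c g) • μ := rfl
    rw [h1, dual_smul_apply]
    congr 1
    apply Subtype.ext
    change (c g⁻¹ n : G) = _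
    simp [c, MulAut.conjNormal_apply]
  have hstab : ∀ (μ : Additive (N →* ℂˣ)) (g : G),
      π g ∈ MulAction.stabilizer Hb μ ↔ g ∈ stabHom N (Additive.toMul μ) := by
    intro μ g
    have key : ∀ g : G, π g ∈ MulAction.stabilizer Hb μ → g⁻¹ ∈ stabHom N (Additive.toMul μ) := by
      intro g hg n
      have h1 : π g • μ = μ := hg
      have h2 := hsmul g μ n
      rw [h1] at h2
      have e : (MulAut.conjNormal g⁻¹ n : N) = ⟨g⁻¹ * n * g, by
          simpa using hNn.conj_mem n n.2 g⁻¹⟩ := by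
        apply Subtype.ext
        simp
      rw [e]
      exact h2.symm
    have key2 : ∀ g : G, g⁻¹ ∈ stabHom N (Additive.toMul μ) → π g ∈ MulAction.stabilizer Hb μ := by
      intro g hg
      have h1 : π g • μ = μ := by
        apply Additive.toMul.injective
        ext n
        rw [hsmul g μ n]
        have e : (MulAut.conjNormal g⁻¹ n : N) = ⟨g⁻¹ * n * g, by
            simpa using hNn.conj_mem n n.2 g⁻¹⟩ := by
          apply Subtype.ext
          simp
        rw [← e, hg n]
      exact h1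
    constructor
    · intro h
      have := key g h
      simpa using (stabHom N (Additive.toMul μ)).inv_mem this
    · intro h
      exact key2 g ((stabHom N (Additive.toMul μ)).inv_mem h)
  have huniq : ∀ (s : ℕ) [Fact s.Prime], (s = p ∨ s = q) → UniqSyl Hb (Additive (N →* ℂˣ)) s := by
    intro s _ hs v hv0
    have hs' : s.Prime := Fact.out
    have hν : Additive.toMul v ≠ 1 := fun h => hv0 (Additive.toMul.injective h)
    obtain ⟨hidx, hdeg⟩ := hU s hs _ hν
    set I := stabHom N (Additive.toMul v) with hI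
    set T₁ := MulAction.stabilizer Hb v with hT₁
    let f : I →* T₁ := (π.comp I.subtype).codRestrict T₁ (fun x => (hstab v x).mpr x.2)
    have hfs : Function.Surjective f := by
      rintro ⟨t, ht⟩
      obtain ⟨g, rfl⟩ := hπ t
      exact ⟨⟨g, (hstab v g).mp ht⟩, rfl⟩
    have hfk : ∀ x : I, (x : G) ∈ R₀ → f x = 1 := by
      intro x hx
      apply Subtype.ext
      apply Subtype.ext
      ext n
      have h1 := hR₀ x hx n n.2
      change (x : G) * n * (x : G)⁻¹ = n
      rw [h1]
      group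
    have hcomap : T₁.comap π = I := by
      ext g
      exact hstab v g
    have hidx' : ¬ s ∣ T₁.index := by
      rw [← Subgroup.index_comap_of_surjective T₁ hπ, hcomap]
      exact hidx
    obtain ⟨P, hP⟩ := Cfsg.Agent.Lib.FGS.SylowMax.exists_sylow_le_of_not_dvd_index hidx'
    refine ⟨P, hP, ?_⟩
    have hnorm := sylow_normal_of_not_dvd hs' _ T₁ rfl inferInstance (fun β => hdeg T₁ f hfs hfk β)
      (P.subtype hP)
    rw [Sylow.coe_subtype] at hnorm
    intro t ht
    rw [Subgroup.mem_normalizer_iff]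
    intro h
    have hkey : ∀ (a : Hb) (ha : a ∈ T₁), ∀ b ∈ (P : Subgroup Hb), a * b * a⁻¹ ∈ (P : Subgroup Hb) := by
      intro a ha b hb
      have h1 : (⟨b, hP hb⟩ : T₁) ∈ (P : Subgroup Hb).subgroupOf T₁ := by
        rw [Subgroup.mem_subgroupOf]
        exact hb
      have h2 := hnorm.conj_mem _ h1 ⟨a, ha⟩
      rwa [Subgroup.mem_subgroupOf] at h2
    constructor
    · intro hh
      exact hkey t ht h hh
    · intro hh
      have h2 := hkey t⁻¹ (T₁.inv_mem ht) _ hh
      simpa [mul_assoc] using h2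
  have hirr : ∀ W : AddSubgroup (Additive (N →* ℂˣ)), (∀ g : Hb, ∀ w ∈ W, g • w ∈ W) → W = ⊥ ∨ W = ⊤ := by
    intro W hW
    let Φ : Subgroup (N →* ℂˣ) :=
      { carrier := {φ | Additive.ofMul φ ∈ W}
        one_mem' := W.zero_mem
        mul_mem' := fun {a b} ha hb => W.add_mem ha hb
        inv_mem' := fun {a} ha => W.neg_mem ha }
    let D₀ : Subgroup N :=
      { carrier := {n | ∀ φ ∈ Φ, φ n = 1}
        one_mem' := fun φ _ => map_one φ
        mul_mem' := fun {a b} ha hb φ hφ => by rw [map_mul, ha φ hφ, hb φ hφ, one_mul]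
        inv_mem' := fun {a} ha φ hφ => by rw [map_inv, ha φ hφ, inv_one] }
    let D : Subgroup G := D₀.map N.subtype
    have hDn : D.Normal := by
      refine ⟨?_⟩
      rintro _ ⟨x, hx, rfl⟩ g
      refine ⟨⟨g * x * g⁻¹, hNn.conj_mem x x.2 g⟩, ?_, rfl⟩
      intro φ hφ
      have h1 : π g⁻¹ • (Additive.ofMul φ) ∈ W := hW _ _ hφ
      have h2 := hx (Additive.toMul (π g⁻¹ • (Additive.ofMul φ))) h1
      rw [hsmul] at h2
      have e : (⟨g⁻¹⁻¹ * x * g⁻¹, by
          simpa using hNn.conj_mem x x.2 g⁻¹⁻¹⟩ : N) = ⟨g * x * g⁻¹, hNn.conj_mem x x.2 g⟩ := by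
        apply Subtype.ext
        simp
      rw [e] at h2
      exact h2
    have hDN : D ≤ N := by
      rintro _ ⟨x, -, rfl⟩
      exact x.2
    rcases hN.2.2 D hDn hDN with h | h
    · right
      have hΦ : Φ = ⊤ := by
        apply dual_annihilator hNc
        intro a ha
        have h1 : (a : G) ∈ D := ⟨a, ha, rfl⟩
        rw [h, Subgroup.mem_bot] at h1
        exact Subtype.ext h1
      rw [eq_top_iff]
      intro μ _
      have h2 : Additive.toMul μ ∈ Φ := by
        rw [hΦ]
        exact Subgroup.mem_top _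
      exact h2
    · left
      rw [eq_bot_iff]
      intro μ hμ
      rw [AddSubgroup.mem_bot]
      apply Additive.toMul.injective
      ext n
      have h1 : (n : G) ∈ D := by
        rw [h]
        exact n.2
      obtain ⟨y, hy, hye⟩ := h1
      have hy' : y = n := Subtype.ext hye
      rw [← hy']
      have h3 := hy (Additive.toMul μ) hμ
      rw [h3]
      rfl
  have hdvd : ∀ (s : ℕ) [Fact s.Prime],
      (¬ ∀ P : Sylow s G, ∀ x ∈ (P : Subgroup G), ∀ n ∈ N, x * n = n * x) → s ∣ Nat.card Hb := by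
    intro s _ hcons
    by_contra hnd
    apply hcons
    intro P x hx n hn
    obtain ⟨k, hk⟩ := Extra.orderOf_sylow P hx
    have h1 : orderOf (π x) ∣ s ^ k := by
      rw [← hk]
      exact orderOf_map_dvd π x
    have h2 : orderOf (π x) ∣ Nat.card Hb := orderOf_dvd_natCard (π x)
    have hs : s.Prime := Fact.out
    have h3 : orderOf (π x) = 1 := by
      obtain ⟨m, -, hm⟩ := (Nat.dvd_prime_pow hs).mp h1
      rcases Nat.eq_zero_or_pos m with h0 | h0
      · rw [hm, h0, pow_zero]
      · exfalso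
        apply hnd
        rw [hm] at h2
        exact (dvd_pow_self s h0.ne').trans h2
    have h4 : π x = 1 := orderOf_eq_one_iff.mp h3
    have h5 : (c x) = 1 := congrArg Subtype.val h4
    have h6 := congrArg (fun α : MulAut N => ((α ⟨n, hn⟩ : N) : G)) h5
    change x * n * x⁻¹ = n at h6
    calc x * n = x * n * x⁻¹ * x := by group
      _ = n * x := by rw [h6]
  have hZ4 : ∀ (A : Subgroup Hb) [A.Normal], (∀ a ∈ A, ∀ b ∈ A, a * b = b * a) → ∀ ν : A →* ℂˣ,
      ¬ (p ∣ (stabHom A ν).index ∧ q ∣ (stabHom A ν).index) := by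
    intro A hAn hAc ν ⟨hpd, hqd⟩
    cases nonempty_fintype Hb
    letI : Fintype A := Fintype.ofFinite A
    obtain ⟨α, hα, hcon⟩ := exists_irr_constituent_restrict A (isIrrCharacter_of_hom ν)
    obtain ⟨e, he⟩ := charDegree_eq_mul_of_constituent hAn hα (isIrrCharacter_of_hom ν) hcon
    rw [inertia_lin hAn ν] at he
    have h1 : ∀ s : ℕ, s ∣ (stabHom A ν).index → s ∣ charDegree α := by
      intro s hs
      rw [he]
      exact (hs.mul_left e).mul_right _
    apply hnp (pull π hπ ⟨α, hα⟩)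
    · change p ∣ charDegree (α ∘ π)
      rw [charDegree_comp]
      exact h1 p hpd
    · change q ∣ charDegree (α ∘ π)
      rw [charDegree_comp]
      exact h1 q hqd
  exact theoremZ hpq (huniq p (Or.inl rfl)) (huniq q (Or.inr rfl)) hirr (hdvd p hconp) (hdvd q hconq) hZ4

end Cfsg.Agent.Lib.Palfy.LemmaT
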