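import Cfsg.Agent.Lib.Palfy.Zee
import Cfsg.Agent.Lib.Char.BrauerPerm
import Cfsg.Agent.Lib.Coprime.Action
import Cfsg.Agent.Lib.Char.Complete

/-!
# An irreducible character moved by two commuting elements

The main lemma of Pálfy's theorem: a group acting on a module in which all the nonzero point
stabilizers have normal abelian Sylow `p`- and `q`-subgroups has a character of degree divisible
by `p q`, unless a Sylow subgroup is normal.
-/

set_option autoImplicit false
set_option linter.unusedSectionVars false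
set_option linter.style.haveILetI false
set_option linter.deprecated false

namespace Cfsg.Agent.Lib.Palfy.Moved

open Cfsg Cfsg.Agent.Lib.Palfy.Spread Cfsg.Agent.Lib.Palfy.Zee
open Cfsg.Agent.Lib.Char.Basic Cfsg.Agent.Lib.Char.Ortho Cfsg.Agent.Lib.Char.Complete
open Cfsg.Agent.Lib.Char.BrauerPerm Cfsg.Agent.Lib.Char.Conj
open Cfsg.Agent.Lib.Char.Clifford Cfsg.Agent.Lib.Char.CliffordCorr
open scoped Pointwise

universe u

section counting

variable {G : Type u} [Group G] [Finite G]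

theorem map_mul_apply (φ ψ : G ≃* G) (C : ConjClasses G) :
    ConjClasses.map (φ * ψ).toMonoidHom C =
      ConjClasses.map φ.toMonoidHom (ConjClasses.map ψ.toMonoidHom C) := by
  induction C using Quotient.inductionOn with
  | _ a => rfl

theorem map_one_apply (C : ConjClasses G) :
    ConjClasses.map (1 : G ≃* G).toMonoidHom C = C := by
  induction C using Quotient.inductionOn with
  | _ a => rfl

theorem map_pow_fix (φ : G ≃* G) (C : ConjClasses G) (h : ConjClasses.map φ.toMonoidHom C = C)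
    (k : ℕ) : ConjClasses.map (φ ^ k).toMonoidHom C = C := by
  induction k with
  | zero => rw [pow_zero, map_one_apply]
  | succ k ih => rw [pow_succ, map_mul_apply, h, ih]

theorem comp_pow_fix (φ : G ≃* G) (χ : G → ℂ) (h : χ ∘ φ = χ) (k : ℕ) : χ ∘ (φ ^ k : G ≃* G) = χ := by
  induction k with
  | zero => rw [pow_zero]; rfl
  | succ k ih =>
    rw [pow_succ]
    funext a
    have h1 := congrFun ih (φ a)
    have h2 := congrFun h a
    simp only [Function.comp_apply] at h1 h2 ⊢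
    rw [MulAut.mul_apply, h1, h2]

/-- The two automorphism form of Brauer's permutation lemma. -/
theorem exists_irr_moved (α γ : G ≃* G) (u v : ℕ) (hu : (α * γ) ^ u = α) (hv : (α * γ) ^ v = γ)
    (C : ConjClasses G) (hα : ConjClasses.map α.toMonoidHom C ≠ C)
    (hγ : ConjClasses.map γ.toMonoidHom C ≠ C) :
    ∃ β : IrrCharacter G, (β : G → ℂ) ∘ α ≠ (β : G → ℂ) ∧ (β : G → ℂ) ∘ γ ≠ (β : G → ℂ) := by
  classical
  letI := Fintype.ofFinite G
  have := finite_irrCharacter (G := G)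
  letI := Fintype.ofFinite (IrrCharacter G)
  letI : Fintype (ConjClasses G) := Fintype.ofFinite _
  let FX : (G ≃* G) → Finset (ConjClasses G) := fun φ =>
    Finset.univ.filter fun C => ConjClasses.map φ.toMonoidHom C = C
  let FI : (G ≃* G) → Finset (IrrCharacter G) := fun φ =>
    Finset.univ.filter fun χ => (χ : G → ℂ) ∘ φ = (χ : G → ℂ)
  have hcard : ∀ φ : G ≃* G, (FX φ).card = (FI φ).card := by
    intro φ
    have h1 := card_fixed_classes_eq_card_fixed_irr φ
    rw [Nat.card_eq_fintype_card, Nat.card_eq_fintype_card, Fintype.card_subtype,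
      Fintype.card_subtype] at h1
    exact h1
  have hFX : FX (α * γ) = FX α ∩ FX γ := by
    ext D
    simp only [FX, Finset.mem_filter, Finset.mem_univ, true_and, Finset.mem_inter]
    constructor
    · intro h
      constructor
      · have := map_pow_fix (α * γ) D h u
        rwa [hu] at this
      · have := map_pow_fix (α * γ) D h v
        rwa [hv] at this
    · rintro ⟨h1, h2⟩
      rw [map_mul_apply, h2, h1]
  have hFI : FI (α * γ) = FI α ∩ FI γ := by
    ext χ
    simp only [FI, Finset.mem_filter, Finset.mem_univ, true_and, Finset.mem_inter]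
    constructor
    · intro h
      constructor
      · have := comp_pow_fix (α * γ) _ h u
        rwa [hu] at this
      · have := comp_pow_fix (α * γ) _ h v
        rwa [hv] at this
    · rintro ⟨h1, h2⟩
      funext a
      have h3 := congrFun h1 (γ a)
      have h4 := congrFun h2 a
      simp only [Function.comp_apply] at h3 h4 ⊢
      rw [MulAut.mul_apply, h3, h4]
  have hU : (FX α ∪ FX γ).card = (FI α ∪ FI γ).card := by
    have h1 := Finset.card_union_add_card_inter (FX α) (FX γ)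
    have h2 := Finset.card_union_add_card_inter (FI α) (FI γ)
    rw [← hFX, hcard (α * γ), hcard α, hcard γ] at h1
    rw [← hFI] at h2
    omega
  have hlt : (FX α ∪ FX γ).card < Fintype.card (ConjClasses G) := by
    rw [← Finset.card_univ]
    apply Finset.card_lt_card
    rw [Finset.ssubset_univ_iff]
    intro h
    have h1 : C ∈ FX α ∪ FX γ := by rw [h]; exact Finset.mem_univ _
    simp only [FX, Finset.mem_union, Finset.mem_filter, Finset.mem_univ, true_and] at h1
    rcases h1 with h1 | h1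
    · exact hα h1
    · exact hγ h1
  have hIC : Fintype.card (IrrCharacter G) = Fintype.card (ConjClasses G) := by
    have := card_irr_eq_card_conjClasses (G := G)
    rwa [Nat.card_eq_fintype_card, Nat.card_eq_fintype_card] at this
  have hex : ∃ β, β ∉ FI α ∪ FI γ := by
    by_contra hc
    push Not at hc
    have h1 : FI α ∪ FI γ = Finset.univ := Finset.eq_univ_iff_forall.mpr hc
    rw [hU, h1, Finset.card_univ, hIC] at hlt
    exact lt_irrefl _ hlt
  obtain ⟨β, hβ⟩ := hex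
  simp only [FI, Finset.mem_union, Finset.mem_filter, Finset.mem_univ, true_and, not_or] at hβ
  exact ⟨β, hβ.1, hβ.2⟩

end counting

section elements

variable {Γ : Type u} [Group Γ]

/-- Commuting elements of coprime prime power order are powers of their product. -/
theorem exists_pow_eq [Finite Γ] {p q a b : ℕ} (hp : p.Prime) (hq : q.Prime) (hpq : p ≠ q) {x y : Γ}
    (hc : x * y = y * x)
    (hx : x ^ p ^ a = 1) (hy : y ^ q ^ b = 1) : ∃ u, (x * y) ^ u = x := by
  have hcop : Nat.Coprime (p ^ a) (q ^ b) :=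
    Nat.Coprime.pow _ _ ((Nat.coprime_primes hp hq).mpr hpq)
  obtain ⟨u, hu1, hu2⟩ := Nat.chineseRemainder hcop 1 0
  refine ⟨u, ?_⟩
  have hcomm : Commute x y := hc
  rw [hcomm.mul_pow]
  have h1 : x ^ u = x ^ 1 := by
    rw [pow_eq_pow_iff_modEq]
    exact hu1.of_dvd (orderOf_dvd_of_pow_eq_one hx)
  have h2 : y ^ u = y ^ 0 := by
    rw [pow_eq_pow_iff_modEq]
    exact hu2.of_dvd (orderOf_dvd_of_pow_eq_one hy)
  rw [h1, h2, pow_one, pow_zero, mul_one]

theorem mem_smul_sylow {p : ℕ} [Fact p.Prime] {P : Sylow p Γ} {g h : Γ} :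
    h ∈ ((g • P : Sylow p Γ) : Subgroup Γ) ↔ g⁻¹ * h * g ∈ (P : Subgroup Γ) := by
  rw [Sylow.coe_subgroup_smul, Subgroup.mem_pointwise_smul_iff_inv_smul_mem]
  simp [MulAut.smul_def, MulAut.conj_apply, MulAut.conj_inv_apply, mul_assoc]

theorem smul_sylow_eq_of_centralizes {p : ℕ} [Fact p.Prime] [Finite Γ] {P : Sylow p Γ} {z : Γ}
    (h : ∀ a ∈ (P : Subgroup Γ), z * a = a * z) : z • P = P := by
  apply Sylow.ext
  apply le_antisymm
  · intro g hg
    rw [mem_smul_sylow] at hg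
    have := h _ hg
    have h2 : z⁻¹ * g * z = g := by
      have h3 : z * (z⁻¹ * g * z) = (z⁻¹ * g * z) * z := this
      have h4 : z * (z⁻¹ * g * z) = g * z := by group
      rw [h4] at h3
      exact (mul_right_cancel h3).symm
    rwa [h2] at hg
  · intro g hg
    rw [mem_smul_sylow]
    have := h _ hg
    have h2 : z⁻¹ * g * z = g := by
      rw [mul_assoc, ← this, inv_mul_cancel_left]
    rwa [h2]

variable [Finite Γ]

/-- Step 3: an element moving the class of `z` in `K`. -/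
theorem exists_moving_elt [Group.IsSolvable Γ] {p : ℕ} [Fact p.Prime] (K : Subgroup Γ) [hK : K.Normal]
    (hcop : (Nat.card K).Coprime p) (P₀ : Sylow p Γ) (z : Γ)
    (hz : ∀ P' : Sylow p Γ, z • P' ≠ P') :
    ∃ x ∈ (P₀ : Subgroup Γ), ∀ k ∈ K, k * x ∉ Subgroup.centralizer ({z} : Set Γ) := by
  by_contra hc
  push Not at hc
  have hAK : (P₀ : Subgroup Γ) ≤ Subgroup.normalizer (K : Set Γ) := Subgroup.le_normalizer_of_normal
  have hp : p.Prime := Fact.out
  have hcop' : (Nat.card (P₀ : Subgroup Γ)).Coprime (Nat.card K) := by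
    obtain ⟨n, hn⟩ := IsPGroup.iff_card.mp P₀.isPGroup'
    rw [hn]
    exact (Nat.Coprime.pow_right n hcop).symm
  obtain ⟨k, hk, hk2⟩ := Cfsg.Agent.Lib.Coprime.Action.glauberman_exists
    (Subgroup.centralizer ({z} : Set Γ)) hAK hcop' (Or.inr inferInstance) hc
  apply hz (k⁻¹ • P₀)
  apply smul_sylow_eq_of_centralizes
  intro a ha
  rw [mem_smul_sylow, inv_inv] at ha
  have h1 := hk2 _ ha
  have h2 : k⁻¹ * (k * a * k⁻¹) * k = a := by group
  rw [h2, Subgroup.mem_centralizer_iff] at h1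
  exact h1 z (Set.mem_singleton z)

theorem dvd_index_of_moved {p : ℕ} [Fact p.Prime] (T K : Subgroup Γ) (hKT : K ≤ T) (P₁ : Sylow p Γ)
    (hKP : ∀ P' : Sylow p Γ, ∃ k ∈ K, k • P₁ = P') {x : Γ} (hx : x ∈ (P₁ : Subgroup Γ))
    (hxT : x ∉ T) : p ∣ T.index := by
  by_contra hc
  apply hxT
  obtain ⟨g, hg⟩ := Cfsg.Agent.Lib.Blk89.ItoMichler.exists_conj_le_of_not_dvd_index P₁.isPGroup' T hc
  obtain ⟨k, hk, hk2⟩ := hKP (g⁻¹ • P₁)
  have h1 : k * x * k⁻¹ ∈ ((k • P₁ : Sylow p Γ) : Subgroup Γ) := by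
    rw [mem_smul_sylow]
    simpa [mul_assoc] using hx
  rw [hk2, mem_smul_sylow, inv_inv] at h1
  have h2 := hg _ h1
  have h3 : g⁻¹ * (g * (k * x * k⁻¹) * g⁻¹) * g = k * x * k⁻¹ := by group
  rw [h3] at h2
  have h4 := T.mul_mem (T.mul_mem (T.inv_mem (hKT hk)) h2) (hKT hk)
  simpa [mul_assoc] using h4

/-- The non-normality of a Sylow subgroup does not depend on the Sylow subgroup. -/
theorem not_normal_sylow {p : ℕ} [Fact p.Prime] {P₀ : Sylow p Γ} (hP : ¬ (P₀ : Subgroup Γ).Normal)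
    (P' : Sylow p Γ) : ¬ (P' : Subgroup Γ).Normal := by
  intro hnorm
  apply hP
  obtain ⟨g, hg⟩ := MulAction.exists_smul_eq Γ P' P₀
  haveI := hnorm
  rw [← hg, Sylow.smul_eq_of_normal]
  exact hnorm

/-- **The main lemma.** -/
theorem exists_deg_mul {W : Type*} [Group.IsSolvable Γ] [CommGroup W] [Finite W]
    (act : Γ →* MulAut W) {p q s n : ℕ} [Fact p.Prime] [Fact q.Prime] (hpq : p ≠ q) (hs : s.Prime)
    (hW : Nat.card W = s ^ n) (hn : 0 < n)
    (hgp : ∀ w : W, w ≠ 1 → GoodAt Γ p (stab act w))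
    (hgq : ∀ w : W, w ≠ 1 → GoodAt Γ q (stab act w))
    (P₀ : Sylow p Γ) (Q₀ : Sylow q Γ) (hPn : ¬ (P₀ : Subgroup Γ).Normal)
    (hQn : ¬ (Q₀ : Subgroup Γ).Normal) :
    ∃ χ : IrrCharacter Γ, p * q ∣ charDegree (χ : Γ → ℂ) := by
  classical
  letI := Fintype.ofFinite Γ
  have hp : p.Prime := Fact.out
  have hq : q.Prime := Fact.out
  -- step 1
  have hW1 : 1 < Nat.card W := by
    rw [hW]
    exact Nat.one_lt_pow hn.ne' hs.one_lt
  haveI := Finite.one_lt_card_iff_nontrivial.mp hW1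
  obtain ⟨w₀, hw₀⟩ := exists_ne (1 : W)
  obtain ⟨P₁, hP₁, hP₁n, hP₁c⟩ := hgp w₀ hw₀
  obtain ⟨Q₁, hQ₁, hQ₁n, hQ₁c⟩ := hgq w₀ hw₀
  have hPn₁ := not_normal_sylow hPn P₁
  have hQn₁ := not_normal_sylow hQn Q₁
  have hcomm : ∀ x ∈ (P₁ : Subgroup Γ), ∀ y ∈ (Q₁ : Subgroup Γ), x * y = y * x := by
    intro x hx y hy
    have hdisj := IsPGroup.disjoint_of_ne p q hpq _ _ P₁.isPGroup' Q₁.isPGroup'
    have h1 : x * y * x⁻¹ * y⁻¹ ∈ (P₁ : Subgroup Γ) := by
      have h2 := (Subgroup.mem_normalizer_iff.mp (hP₁n (hQ₁ hy)) x⁻¹).mp (P₁.toSubgroup.inv_mem hx)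
      have h3 := P₁.toSubgroup.mul_mem hx h2
      simpa [mul_assoc] using h3
    have h2 : x * y * x⁻¹ * y⁻¹ ∈ (Q₁ : Subgroup Γ) := by
      have h2 := (Subgroup.mem_normalizer_iff.mp (hQ₁n (hP₁ hx)) y).mp hy
      exact Q₁.toSubgroup.mul_mem h2 (Q₁.toSubgroup.inv_mem hy)
    have h3 : x * y * x⁻¹ * y⁻¹ = 1 := by
      have := Subgroup.disjoint_def.mp hdisj h1 h2
      exact this
    have h4 : x * y * x⁻¹ = y := by
      rw [mul_inv_eq_one] at h3
      exact h3
    rw [mul_inv_eq_iff_eq_mul] at h4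
    exact h4
  obtain ⟨K, hKn, hKp, hKq, hKP, hKQ⟩ := Cfsg.Agent.Lib.Palfy.KCore.exists_core hpq P₁ Q₁ hcomm hP₁c hQ₁c
  haveI := hKn
  -- step 2
  obtain ⟨z, hzK, hzP, hzQ⟩ := exists_z act K P₁ Q₁ hpq hs hW hn hKP hKQ hPn₁ hQn₁ hgp hgq hcomm hw₀
    hP₁ hQ₁
  -- step 3
  obtain ⟨x, hx, hxz⟩ := exists_moving_elt K hKp P₁ z hzP
  obtain ⟨y, hy, hyz⟩ := exists_moving_elt K hKq Q₁ z hzQ
  -- step 4
  have hxy := hcomm x hx y hy
  obtain ⟨a, ha⟩ := P₁.isPGroup' ⟨x, hx⟩
  obtain ⟨b, hb⟩ := Q₁.isPGroup' ⟨y, hy⟩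
  have ha' : x ^ p ^ a = 1 := by
    have := congrArg (fun t : (P₁ : Subgroup Γ) => (t : Γ)) ha
    simpa using this
  have hb' : y ^ q ^ b = 1 := by
    have := congrArg (fun t : (Q₁ : Subgroup Γ) => (t : Γ)) hb
    simpa using this
  obtain ⟨u, hu⟩ := exists_pow_eq hp hq hpq hxy ha' hb'
  obtain ⟨v, hv⟩ := exists_pow_eq hq hp hpq.symm hxy.symm hb' ha'
  let φ : Γ →* MulAut K := MulAut.conjNormal
  have hφu : (φ x * φ y) ^ u = φ x := by
    rw [← map_mul, ← map_pow, hu]
  have hφv : (φ x * φ y) ^ v = φ y := by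
    rw [← map_mul, ← map_pow, hxy, hv]
  have hmoved : ∀ g : Γ, (∀ k ∈ K, k * g ∉ Subgroup.centralizer ({z} : Set Γ)) →
      ConjClasses.map (φ g).toMonoidHom (ConjClasses.mk (⟨z, hzK⟩ : K)) ≠
        ConjClasses.mk (⟨z, hzK⟩ : K) := by
    intro g hg h
    have h1 : ConjClasses.mk (φ g ⟨z, hzK⟩) = ConjClasses.mk (⟨z, hzK⟩ : K) := h
    rw [ConjClasses.mk_eq_mk_iff_isConj, isConj_iff] at h1
    obtain ⟨k, hk⟩ := h1
    apply hg k k.2
    rw [Subgroup.mem_centralizer_iff]
    intro c hc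
    rw [Set.mem_singleton_iff] at hc
    subst hc
    have h2 : (k : Γ) * (g * c * g⁻¹) * (k : Γ)⁻¹ = c := by
      have := congrArg Subtype.val hk
      simpa [φ, MulAut.conjNormal_apply] using this
    calc c * ((k : Γ) * g) = ((k : Γ) * (g * c * g⁻¹) * (k : Γ)⁻¹) * ((k : Γ) * g) := by rw [h2]
      _ = (k : Γ) * g * c := by group
  obtain ⟨β, hβx, hβy⟩ := exists_irr_moved (φ x) (φ y) u v hφu hφv _ (hmoved x hxz) (hmoved y hyz)
  -- step 5
  letI : Fintype K := Fintype.ofFinite K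
  set T := inertia hKn (β : K → ℂ) with hT
  have hKT : K ≤ T := le_inertia hKn (isClassFunction_of_isIrrCharacter β.2)
  have hnot : ∀ g : Γ, (β : K → ℂ) ∘ φ g ≠ (β : K → ℂ) → g ∉ T := by
    intro g hg hmem
    apply hg
    have h1 : conjOn hKn g (β : K → ℂ) = (β : K → ℂ) := hmem
    funext h
    have h2 := congrFun h1 h
    exact h2
  have hpT := dvd_index_of_moved T K hKT P₁ hKP hx (hnot x hβx)
  have hqT := dvd_index_of_moved T K hKT Q₁ hKQ hy (hnot y hβy)
  have hpqT : p * q ∣ T.index :=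
    Nat.Coprime.mul_dvd_of_dvd_of_dvd ((Nat.coprime_primes hp hq).mpr hpq) hpT hqT
  obtain ⟨χ, hχ⟩ := Cfsg.Agent.Lib.Blk89.ItoMichler.exists_irr_over (G := Γ) (N := K) β.2
  have hd := Cfsg.Agent.Lib.Blk89.ItoMichler.deg_mul_index_dvd hKn χ.2 β.2 hχ
  exact ⟨χ, (hpqT.trans (Dvd.intro _ rfl)).trans hd⟩

end elements

end Cfsg.Agent.Lib.Palfy.Moved
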