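import Cfsg.Agent.Lib.Palfy.KCore
import Cfsg.Agent.Lib.Zsig.Basic
import Cfsg.Agent.Lib.Blk89.ItoMichler

/-!
# Partitions of a module by fixed points of Sylow subgroups
-/

set_option autoImplicit false
set_option linter.unusedSectionVars false
set_option linter.style.haveILetI false
set_option linter.deprecated false

namespace Cfsg.Agent.Lib.Palfy.Spread

open Cfsg
open scoped Pointwise

variable {Γ W : Type*} [Group Γ] [Finite Γ] [CommGroup W] [Finite W] (act : Γ →* MulAut W)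

/-- The stabilizer of an element. -/
def stab (w : W) : Subgroup Γ where
  carrier := {g | act g w = w}
  mul_mem' := by
    intro a b ha hb
    simp only [Set.mem_setOf_eq] at ha hb ⊢
    rw [map_mul, MulAut.mul_apply, hb, ha]
  one_mem' := by simp
  inv_mem' := by
    intro a ha
    simp only [Set.mem_setOf_eq] at ha ⊢
    rw [map_inv]
    show (act a).symm w = w
    rw [MulEquiv.symm_apply_eq]
    exact ha.symm

@[simp] theorem mem_stab {w : W} {g : Γ} : g ∈ stab act w ↔ act g w = w := Iff.rfl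

/-- The fixed points of a subgroup. -/
def fixW (A : Subgroup Γ) : Subgroup W where
  carrier := {w | ∀ a ∈ A, act a w = w}
  mul_mem' := by
    intro a b ha hb x hx
    rw [map_mul, ha x hx, hb x hx]
  one_mem' := by
    intro x _
    simp
  inv_mem' := by
    intro a ha x hx
    rw [map_inv, ha x hx]

@[simp] theorem mem_fixW {w : W} {A : Subgroup Γ} : w ∈ fixW act A ↔ ∀ a ∈ A, act a w = w := Iff.rfl

/-- Stabilizers contain a normal abelian Sylow subgroup of the whole group. -/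
def GoodAt (Γ : Type*) [Group Γ] (p : ℕ) (S : Subgroup Γ) : Prop :=
  ∃ P : Sylow p Γ, (P : Subgroup Γ) ≤ S ∧ S ≤ Subgroup.normalizer ((P : Subgroup Γ) : Set Γ) ∧
    ∀ x ∈ (P : Subgroup Γ), ∀ y ∈ (P : Subgroup Γ), x * y = y * x

/-- The uniqueness of the Sylow subgroup in a good subgroup. -/
theorem GoodAt.unique {p : ℕ} [Fact p.Prime] {S : Subgroup Γ} (h : GoodAt Γ p S) {P₁ P₂ : Sylow p Γ}
    (h1 : (P₁ : Subgroup Γ) ≤ S) (h2 : (P₂ : Subgroup Γ) ≤ S) : P₁ = P₂ := by
  obtain ⟨P₀, -, hn, -⟩ := h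
  have aux : ∀ P : Sylow p Γ, (P : Subgroup Γ) ≤ S → P = P₀ := by
    intro P hP
    have h3 : (P : Subgroup Γ) ⊓ Subgroup.normalizer ((P₀ : Subgroup Γ) : Set Γ) =
        (P : Subgroup Γ) ⊓ P₀ := P.isPGroup'.inf_normalizer_sylow P₀
    have h4 : (P : Subgroup Γ) ≤ P₀ := by
      intro x hx
      have h5 : x ∈ (P : Subgroup Γ) ⊓ Subgroup.normalizer ((P₀ : Subgroup Γ) : Set Γ) :=
        ⟨hx, hn (hP hx)⟩
      rw [h3] at h5
      exact h5.2
    exact (Sylow.ext (P.is_maximal' P₀.isPGroup' h4)).symm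
  rw [aux P₁ h1, aux P₂ h2]

theorem le_stab_iff {w : W} {A : Subgroup Γ} : A ≤ stab act w ↔ w ∈ fixW act A := Iff.rfl

theorem act_mem_fixW_smul {p : ℕ} [Fact p.Prime] {P : Sylow p Γ} {w : W}
    (hw : w ∈ fixW act (P : Subgroup Γ)) (g : Γ) :
    act g w ∈ fixW act ((g • P : Sylow p Γ) : Subgroup Γ) := by
  intro a ha
  rw [Sylow.coe_subgroup_smul, Subgroup.mem_pointwise_smul_iff_inv_smul_mem] at ha
  have h1 : g⁻¹ * a * g ∈ (P : Subgroup Γ) := by
    simpa [MulAut.smul_def, MulAut.conj_apply, MulAut.conj_inv_apply, mul_assoc] using ha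
  have h2 := hw _ h1
  have h3 : act a (act g w) = act g (act (g⁻¹ * a * g) w) := by
    rw [← MulAut.mul_apply, ← MulAut.mul_apply, ← map_mul, ← map_mul]
    congr 2
    group
  rw [h3, h2]

theorem act_injective (g : Γ) : Function.Injective (act g) := (act g).injective

/-- The partition count. -/
theorem card_partition {p : ℕ} [Fact p.Prime] (Y : Subgroup W) (hY : ∀ g : Γ, ∀ w ∈ Y, act g w ∈ Y)
    (hg : ∀ w ∈ Y, w ≠ 1 → GoodAt Γ p (stab act w)) (P : Sylow p Γ) :
    Nat.card Y = Nat.card (Sylow p Γ) * (Nat.card ↥(Y ⊓ fixW act (P : Subgroup Γ)) - 1) + 1 := by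
  classical
  letI : Fintype W := Fintype.ofFinite W
  letI : Fintype (Sylow p Γ) := Fintype.ofFinite _
  -- the size of parts
  have hsize : ∀ P' : Sylow p Γ, Nat.card ↥(Y ⊓ fixW act (P' : Subgroup Γ)) =
      Nat.card ↥(Y ⊓ fixW act (P : Subgroup Γ)) := by
    intro P'
    obtain ⟨g, rfl⟩ := MulAction.exists_smul_eq Γ P P'
    have h1 : (Y ⊓ fixW act (P : Subgroup Γ)).map (act g).toMonoidHom =
        Y ⊓ fixW act ((g • P : Sylow p Γ) : Subgroup Γ) := by
      apply le_antisymm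
      · rintro _ ⟨w, ⟨hw1, hw2⟩, rfl⟩
        exact ⟨hY g w hw1, act_mem_fixW_smul act hw2 g⟩
      · rintro w ⟨hw1, hw2⟩
        refine ⟨act g⁻¹ w, ⟨hY _ w hw1, ?_⟩, ?_⟩
        · have := act_mem_fixW_smul act hw2 g⁻¹
          rwa [inv_smul_smul] at this
        · show act g (act g⁻¹ w) = w
          rw [map_inv, MulAut.apply_inv_self]
    rw [← h1]
    exact Subgroup.card_map_of_injective (act g).injective
  -- the assignment
  have hex : ∀ w : W, w ∈ Y ∧ w ≠ 1 → ∃ P' : Sylow p Γ, w ∈ fixW act (P' : Subgroup Γ) := by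
    rintro w ⟨h1, h2⟩
    obtain ⟨P', hP', -, -⟩ := hg w h1 h2
    exact ⟨P', hP'⟩
  let σ : W → Sylow p Γ := fun w => if h : w ∈ Y ∧ w ≠ 1 then (hex w h).choose else P
  have hσ : ∀ w, ∀ h : w ∈ Y ∧ w ≠ 1, w ∈ fixW act (σ w : Subgroup Γ) := by
    intro w h
    simp only [σ, dif_pos h]
    exact (hex w h).choose_spec
  let S : Finset W := Finset.univ.filter fun w => w ∈ Y ∧ w ≠ 1
  have hfib : ∀ P' : Sylow p Γ, (S.filter fun w => σ w = P').card =
      Nat.card ↥(Y ⊓ fixW act (P : Subgroup Γ)) - 1 := by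
    intro P'
    rw [← hsize P']
    set Z := Y ⊓ fixW act (P' : Subgroup Γ) with hZ
    letI : Fintype Z := Fintype.ofFinite _
    have h1 : (S.filter fun w => σ w = P') = (Finset.univ.filter fun w => w ∈ Z).erase 1 := by
      ext w
      simp only [S, Finset.mem_filter, Finset.mem_univ, true_and, Finset.mem_erase]
      constructor
      · rintro ⟨⟨h1, h2⟩, rfl⟩
        exact ⟨h2, h1, hσ w ⟨h1, h2⟩⟩
      · rintro ⟨h2, h1, h3⟩
        refine ⟨⟨h1, h2⟩, ?_⟩
        have h4 := hσ w ⟨h1, h2⟩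
        exact (hg w h1 h2).unique h4 h3
    rw [h1, Finset.card_erase_of_mem (by simp [Z.one_mem]), Nat.card_eq_fintype_card,
      Fintype.card_subtype]
  have h3 : S.card = ∑ P' : Sylow p Γ, (S.filter fun w => σ w = P').card :=
    Finset.card_eq_sum_card_fiberwise (fun _ _ => Finset.mem_univ _)
  have h4 : S.card = Nat.card Y - 1 := by
    letI : Fintype Y := Fintype.ofFinite _
    have h5 : S = (Finset.univ.filter fun w => w ∈ Y).erase 1 := by
      ext w
      simp only [S, Finset.mem_filter, Finset.mem_univ, true_and, Finset.mem_erase]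
      tauto
    rw [h5, Finset.card_erase_of_mem (by simp [Y.one_mem]), Nat.card_eq_fintype_card,
      Fintype.card_subtype]
  have h6 : 0 < Nat.card Y := Nat.card_pos
  simp only [hfib, Finset.sum_const, Finset.card_univ, smul_eq_mul] at h3
  rw [h4] at h3
  rw [Nat.card_eq_fintype_card (α := Sylow p Γ)]
  omega

end Cfsg.Agent.Lib.Palfy.Spread
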