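import Cfsg.Agent.Lib.Palfy.Spread

/-!
# An element of the core normalizing no Sylow subgroup
-/

set_option autoImplicit false
set_option linter.unusedSectionVars false
set_option linter.style.haveILetI false
set_option linter.deprecated false

namespace Cfsg.Agent.Lib.Palfy.Zee

open Cfsg Cfsg.Agent.Lib.Palfy.Spread
open scoped Pointwise

variable {Γ W : Type*} [Group Γ] [Finite Γ] [CommGroup W] [Finite W] (act : Γ →* MulAut W)

theorem card_partition_top {p : ℕ} [Fact p.Prime] (hg : ∀ w : W, w ≠ 1 → GoodAt Γ p (stab act w))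
    (P : Sylow p Γ) :
    Nat.card W = Nat.card (Sylow p Γ) * (Nat.card (fixW act (P : Subgroup Γ)) - 1) + 1 := by
  have h := card_partition act (⊤ : Subgroup W) (fun _ _ _ => trivial) (fun w _ hw => hg w hw) P
  rwa [top_inf_eq, Subgroup.card_top] at h

theorem two_le_card_sylow {p : ℕ} [Fact p.Prime] (P : Sylow p Γ) (h : ¬ (P : Subgroup Γ).Normal) :
    2 ≤ Nat.card (Sylow p Γ) := by
  by_contra hc
  have h1 : 0 < Nat.card (Sylow p Γ) := Nat.card_pos
  have h2 : Nat.card (Sylow p Γ) = 1 := by omega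
  have h3 : Subsingleton (Sylow p Γ) := (Nat.card_eq_one_iff_unique.mp h2).1
  exact h (Sylow.normal_of_subsingleton P)

variable {p q s n : ℕ} [Fact p.Prime] [Fact q.Prime]

/-- The size of a part. -/
theorem exists_part_card (hs : s.Prime) (hW : Nat.card W = s ^ n) (hn : 0 < n)
    (hg : ∀ w : W, w ≠ 1 → GoodAt Γ p (stab act w)) (P : Sylow p Γ)
    (h : ¬ (P : Subgroup Γ).Normal) :
    ∃ d, 0 < d ∧ d < n ∧ Nat.card (fixW act (P : Subgroup Γ)) = s ^ d ∧
      s ^ n = Nat.card (Sylow p Γ) * (s ^ d - 1) + 1 := by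
  have h1 := card_partition_top act hg P
  have h2 := two_le_card_sylow P h
  have h3 : Nat.card (fixW act (P : Subgroup Γ)) ∣ s ^ n := by
    rw [← hW]
    exact Subgroup.card_subgroup_dvd_card _
  obtain ⟨d, hd, hd2⟩ := (Nat.dvd_prime_pow hs).mp h3
  rw [hd2] at h1
  rw [hW] at h1
  have hspos : ∀ k, 0 < s ^ k := fun k => pow_pos hs.pos k
  have hs2 : ∀ k, 0 < k → 2 ≤ s ^ k := fun k hk =>
    (hs.two_le).trans (Nat.le_self_pow (by omega) s)
  have hd0 : 0 < d := by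
    rcases Nat.eq_zero_or_pos d with rfl | h0
    · have := hs2 n hn
      rw [pow_zero, Nat.sub_self, Nat.mul_zero, Nat.zero_add] at h1
      omega
    · exact h0
  refine ⟨d, hd0, ?_, hd2, h1⟩
  have hdn : d ≠ n := by
    rintro rfl
    have h4 := hs2 d hd0
    have h5 : 2 * (s ^ d - 1) ≤ Nat.card (Sylow p Γ) * (s ^ d - 1) := Nat.mul_le_mul_right _ h2
    omega
  omega

/-- The fixed subgroup of one element. -/
def fixEl (z : Γ) : Subgroup W where
  carrier := {w | act z w = w}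
  mul_mem' := by
    intro a b ha hb
    simp only [Set.mem_setOf_eq] at ha hb ⊢
    rw [map_mul, ha, hb]
  one_mem' := by simp
  inv_mem' := by
    intro a ha
    simp only [Set.mem_setOf_eq] at ha ⊢
    rw [map_inv, ha]

@[simp] theorem mem_fixEl {z : Γ} {w : W} : w ∈ fixEl act z ↔ act z w = w := Iff.rfl

theorem card_modEq_fixEl {t m : ℕ} [Fact t.Prime] {z : Γ} (hz : z ^ t ^ m = 1) (F : Subgroup W)
    (hF : ∀ w ∈ F, act z w ∈ F) :
    Nat.card F ≡ Nat.card ↥(F ⊓ fixEl act z) [MOD t] := by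
  classical
  letI : Fintype F := Fintype.ofFinite _
  let f : Function.End F := fun w => ⟨act z w, hF _ w.2⟩
  have hpow : ∀ k : ℕ, ∀ w : F, ((f ^ k) w : W) = act (z ^ k) w := by
    intro k
    induction k with
    | zero => intro w; rw [pow_zero, pow_zero, map_one]; rfl
    | succ k ih =>
      intro w
      rw [pow_succ', pow_succ', map_mul, MulAut.mul_apply, ← ih w]
      rfl
  have hf : f ^ t ^ m = 1 := by
    funext w
    apply Subtype.ext
    rw [hpow, hz, map_one]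
    rfl
  have h1 := Equiv.Perm.card_fixedPoints_modEq hf
  have h2 : Nat.card f.fixedPoints = Nat.card ↥(F ⊓ fixEl act z) := by
    refine Nat.card_congr ⟨fun w => ⟨w.1.1, w.1.2, ?_⟩, fun w => ⟨⟨w.1, w.2.1⟩, ?_⟩, ?_, ?_⟩
    · have := w.2
      have h3 : f w.1 = w.1 := this
      exact congrArg Subtype.val h3
    · apply Subtype.ext
      exact w.2.2
    · intro w
      rfl
    · intro w
      rfl
  rw [Nat.card_eq_fintype_card (α := F), ← h2, Nat.card_eq_fintype_card (α := f.fixedPoints)]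
  exact h1

/-- A `t`-element where `t` is a primitive prime divisor of `s ^ n - 1` acting nontrivially leaves
invariant no proper nontrivial subgroup. -/
theorem act_eq_one_of_ppd {t m d : ℕ} [Fact t.Prime] (hs : s.Prime) (hW : Nat.card W = s ^ n)
    (h1 : t ∣ s ^ n - 1) (h2 : ∀ k, 0 < k → k < n → ¬ t ∣ s ^ k - 1) {z : Γ} (hz : z ^ t ^ m = 1)
    (F : Subgroup W) (hF : ∀ w ∈ F, act z w ∈ F) (hcard : Nat.card F = s ^ d) (hd0 : 0 < d)
    (hdn : d < n) : act z = 1 := by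
  classical
  have ht : t.Prime := Fact.out
  have hspos : ∀ k, 0 < s ^ k := fun k => pow_pos hs.pos k
  have hts : t ≠ s := by
    rintro rfl
    have h3 : t ∣ t ^ n := dvd_pow_self t (by omega)
    have h4 := (Nat.dvd_sub_iff_right (hspos n) h3).mp h1
    exact ht.one_lt.ne' (Nat.dvd_one.mp h4)
  have hcop : Nat.Coprime t s := (Nat.coprime_primes ht hs).mpr hts
  -- a nontrivial fixed point
  have h3 := card_modEq_fixEl act hz F hF
  have h4 : Nat.card ↥(F ⊓ fixEl act z) ∣ s ^ d := by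
    rw [← hcard]
    exact Subgroup.card_dvd_of_le inf_le_left
  obtain ⟨c, hc, hc2⟩ := (Nat.dvd_prime_pow hs).mp h4
  have hc0 : 0 < c := by
    rcases Nat.eq_zero_or_pos c with rfl | h0
    · rw [hcard, hc2, pow_zero] at h3
      have h5 : t ∣ s ^ d - 1 := (Nat.modEq_iff_dvd' (Nat.one_le_iff_ne_zero.mpr (hspos d).ne')).mp h3.symm
      exact absurd h5 (h2 d hd0 hdn)
    · exact h0
  -- now the fixed points of `z` in `W`
  have h5 := card_modEq_fixEl act hz (⊤ : Subgroup W) (fun _ _ => trivial)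
  rw [top_inf_eq, Subgroup.card_top, hW] at h5
  have h6 : Nat.card (fixEl act z) ∣ s ^ n := by
    rw [← hW]
    exact Subgroup.card_subgroup_dvd_card _
  obtain ⟨e, he, he2⟩ := (Nat.dvd_prime_pow hs).mp h6
  rw [he2] at h5
  have hce : c ≤ e := by
    have h7 : Nat.card ↥(F ⊓ fixEl act z) ∣ Nat.card (fixEl act z) :=
      Subgroup.card_dvd_of_le inf_le_right
    rw [hc2, he2] at h7
    exact (Nat.pow_dvd_pow_iff_le_right hs.one_lt).mp h7
  have he0 : 0 < e := by omega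
  have hen : e = n := by
    by_contra hne
    have hlt : e < n := lt_of_le_of_ne he hne
    have h7 : t ∣ s ^ n - s ^ e := (Nat.modEq_iff_dvd' (Nat.pow_le_pow_right hs.pos he)).mp h5.symm
    have h8 : s ^ n - s ^ e = s ^ e * (s ^ (n - e) - 1) := by
      rw [Nat.mul_sub, mul_one, ← pow_add]
      congr 2
      omega
    rw [h8] at h7
    have h9 : t ∣ s ^ (n - e) - 1 := (Nat.Coprime.pow_right e hcop).dvd_of_dvd_mul_left h7
    exact h2 (n - e) (by omega) (by omega) h9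
  have h7 : fixEl act z = ⊤ := by
    apply Subgroup.eq_top_of_card_eq
    rw [he2, hen, hW]
  ext w
  have h8 : w ∈ fixEl act z := by rw [h7]; trivial
  simpa using h8

section existence

variable (K : Subgroup Γ) (P₀ : Sylow p Γ) (Q₀ : Sylow q Γ)

theorem smul_eq_of_fix {w : W} (hw1 : w ≠ 1) (hg : GoodAt Γ p (stab act w)) {P₁ P₂ : Sylow p Γ}
    (h1 : w ∈ fixW act (P₁ : Subgroup Γ)) (h2 : w ∈ fixW act (P₂ : Subgroup Γ)) : P₁ = P₂ :=
  hg.unique h1 h2

/-- If `z` acts trivially and fixes a nonzero element of `fix P` then `z` normalizes `P`. -/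
theorem smul_eq_of_act_fix {z : Γ} {w : W} (hw1 : w ≠ 1) (hg : GoodAt Γ p (stab act w))
    (hz : act z w = w) (h1 : w ∈ fixW act (P₀ : Subgroup Γ)) : z • P₀ = P₀ := by
  have h2 := act_mem_fixW_smul act h1 z
  rw [hz] at h2
  exact hg.unique h2 h1

/-- The nested case. -/
theorem exists_z_nested
    (hKP : ∀ P' : Sylow p Γ, ∃ k ∈ K, k • P₀ = P')
    (hKQ : ∀ Q' : Sylow q Γ, ∃ k ∈ K, k • Q₀ = Q')
    (hQn : ¬ (Q₀ : Subgroup Γ).Normal)
    (hgq : ∀ w : W, w ≠ 1 → GoodAt Γ q (stab act w))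
    (hfix : fixW act (P₀ : Subgroup Γ) ≤ fixW act (Q₀ : Subgroup Γ))
    {w₀ : W} (hw₀ : w₀ ≠ 1) (hw₀P : w₀ ∈ fixW act (P₀ : Subgroup Γ)) :
    ∃ z ∈ K, (∀ P' : Sylow p Γ, z • P' ≠ P') ∧ (∀ Q' : Sylow q Γ, z • Q' ≠ Q') := by
  classical
  let S : Subgroup K := (MulAction.stabilizer Γ Q₀).subgroupOf K
  have hS : S ≠ ⊤ := by
    intro h
    apply hQn
    have h1 : ∀ Q' : Sylow q Γ, Q' = Q₀ := by
      intro Q'
      obtain ⟨k, hk, rfl⟩ := hKQ Q'
      have h2 : (⟨k, hk⟩ : K) ∈ S := by rw [h]; trivial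
      exact h2
    haveI : Subsingleton (Sylow q Γ) := ⟨fun a b => by rw [h1 a, h1 b]⟩
    exact Sylow.normal_of_subsingleton Q₀
  have hex : ∃ z : K, ∀ g : K, g * z * g⁻¹ ∉ S := by
    by_contra hc
    push Not at hc
    exact hS (Cfsg.Agent.Lib.Blk89.ItoMichler.eq_top_of_forall_conj_mem S hc)
  obtain ⟨z, hz⟩ := hex
  have key : ∀ k ∈ K, ¬ ((k⁻¹ * (z : Γ) * k) • Q₀ = Q₀) := by
    intro k hk h
    exact hz ⟨k⁻¹, K.inv_mem hk⟩ (by
      show (k⁻¹ * (z : Γ) * k⁻¹⁻¹) • Q₀ = Q₀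
      rw [inv_inv]
      exact h)
  refine ⟨z, z.2, ?_, ?_⟩
  · intro P' hP'
    obtain ⟨k, hk, rfl⟩ := hKP P'
    have h1 : (k⁻¹ * (z : Γ) * k) • P₀ = P₀ := by
      rw [mul_smul, mul_smul, hP', inv_smul_smul]
    apply key k hk
    set z' := k⁻¹ * (z : Γ) * k with hz'
    have h2 : act z' w₀ ∈ fixW act (P₀ : Subgroup Γ) := by
      have := act_mem_fixW_smul act hw₀P z'
      rwa [h1] at this
    have h3 : act z' w₀ ∈ fixW act ((z' • Q₀ : Sylow q Γ) : Subgroup Γ) :=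
      act_mem_fixW_smul act (hfix hw₀P) z'
    have h4 : act z' w₀ ≠ 1 := by
      intro h
      apply hw₀
      have := (act z').injective (h.trans (map_one (act z')).symm)
      exact this
    exact (hgq _ h4).unique h3 (hfix h2)
  · intro Q' hQ'
    obtain ⟨k, hk, rfl⟩ := hKQ Q'
    apply key k hk
    rw [mul_smul, mul_smul, hQ', inv_smul_smul]

/-- The case of a primitive prime divisor. -/
theorem exists_z_ppd {t : ℕ} [Fact t.Prime] (hs : s.Prime) (hW : Nat.card W = s ^ n) (hn : 0 < n)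
    (hKP : ∀ P' : Sylow p Γ, ∃ k ∈ K, k • P₀ = P')
    (hPn : ¬ (P₀ : Subgroup Γ).Normal) (hQn : ¬ (Q₀ : Subgroup Γ).Normal)
    (hgp : ∀ w : W, w ≠ 1 → GoodAt Γ p (stab act w))
    (hgq : ∀ w : W, w ≠ 1 → GoodAt Γ q (stab act w))
    (ht1 : t ∣ s ^ n - 1) (ht2 : ∀ k, 0 < k → k < n → ¬ t ∣ s ^ k - 1) :
    ∃ z ∈ K, (∀ P' : Sylow p Γ, z • P' ≠ P') ∧ (∀ Q' : Sylow q Γ, z • Q' ≠ Q') := by
  classical
  have htp : t.Prime := Fact.out
  obtain ⟨d, hd0, hdn, hdc, hdeq⟩ := exists_part_card act hs hW hn hgp P₀ hPn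
  have hspos : ∀ k, 0 < s ^ k := fun k => pow_pos hs.pos k
  -- `t` divides the number of Sylow subgroups
  have h1 : t ∣ Nat.card (Sylow p Γ) := by
    have h2 : s ^ n - 1 = Nat.card (Sylow p Γ) * (s ^ d - 1) := by omega
    rw [h2] at ht1
    exact (htp.dvd_mul.mp ht1).resolve_right (ht2 d hd0 hdn)
  -- the transitive action of `K`
  let S : Subgroup K := MulAction.stabilizer K P₀
  have htrans : MulAction.IsPretransitive K (Sylow p Γ) := by
    refine ⟨fun a b => ?_⟩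
    obtain ⟨k₁, hk₁, h₁⟩ := hKP a
    obtain ⟨k₂, hk₂, h₂⟩ := hKP b
    refine ⟨⟨k₂, hk₂⟩ * ⟨k₁, hk₁⟩⁻¹, ?_⟩
    show (k₂ * k₁⁻¹) • a = b
    rw [mul_smul, ← h₁, inv_smul_smul, h₂]
  have hidx : S.index = Nat.card (Sylow p Γ) := MulAction.index_stabilizer_of_transitive K P₀
  obtain ⟨T⟩ : Nonempty (Sylow t K) := inferInstance
  have hnotle : ¬ (T : Subgroup K) ≤ S := by
    intro hle
    have h3 : ¬ t ∣ (T : Subgroup K).index := T.not_dvd_index
    apply h3
    have h4 : S.index ∣ (T : Subgroup K).index := Subgroup.index_dvd_of_le hle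
    rw [hidx] at h4
    exact h1.trans h4
  obtain ⟨z, hzT, hzS⟩ := Set.not_subset.mp hnotle
  -- `z` is a `t`-element
  obtain ⟨m, hm⟩ := T.isPGroup' ⟨z, hzT⟩
  have hzm : ((z : K) : Γ) ^ t ^ m = 1 := by
    have := congrArg (fun y : (T : Subgroup K) => ((y : K) : Γ)) hm
    simpa using this
  -- `z` moves `P₀`
  have hzP : ((z : K) : Γ) • P₀ ≠ P₀ := fun h => hzS h
  -- a nonzero fixed point
  have hpos : 1 < Nat.card (fixW act (P₀ : Subgroup Γ)) := by
    rw [hdc]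
    exact Nat.one_lt_pow hd0.ne' hs.one_lt
  haveI := Finite.one_lt_card_iff_nontrivial.mp hpos
  obtain ⟨⟨w, hwmem⟩, hw⟩ := exists_ne (1 : fixW act (P₀ : Subgroup Γ))
  have hw1 : w ≠ 1 := fun h => hw (Subtype.ext h)
  -- it acts nontrivially
  have hact : act (z : Γ) ≠ 1 := by
    intro h
    apply hzP
    refine smul_eq_of_act_fix act P₀ hw1 (hgp w hw1) ?_ hwmem
    rw [h]
    rfl
  refine ⟨z, z.2, ?_, ?_⟩
  · intro P' hP'
    apply hact
    have hPn' : ¬ (P' : Subgroup Γ).Normal := by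
      intro hnorm
      apply hPn
      obtain ⟨g, hg⟩ := MulAction.exists_smul_eq Γ P' P₀
      haveI := hnorm
      rw [← hg, Sylow.smul_eq_of_normal]
      exact hnorm
    obtain ⟨d', hd0', hdn', hdc', -⟩ := exists_part_card act hs hW hn hgp P' hPn'
    refine act_eq_one_of_ppd act hs hW ht1 ht2 hzm (fixW act (P' : Subgroup Γ)) ?_ hdc' hd0' hdn'
    intro w' hw'
    have := act_mem_fixW_smul act hw' (z : Γ)
    rwa [hP'] at this
  · intro Q' hQ'
    apply hact
    have hQn' : ¬ (Q' : Subgroup Γ).Normal := by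
      intro hnorm
      apply hQn
      obtain ⟨g, hg⟩ := MulAction.exists_smul_eq Γ Q' Q₀
      haveI := hnorm
      rw [← hg, Sylow.smul_eq_of_normal]
      exact hnorm
    obtain ⟨d', hd0', hdn', hdc', -⟩ := exists_part_card act hs hW hn hgq Q' hQn'
    refine act_eq_one_of_ppd act hs hW ht1 ht2 hzm (fixW act (Q' : Subgroup Γ)) ?_ hdc' hd0' hdn'
    intro w' hw'
    have := act_mem_fixW_smul act hw' (z : Γ)
    rwa [hQ'] at this

/-- Number-theoretic core of `2 ^ 6`. -/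
theorem two_six_arith {r np nq d dq e : ℕ} (hr : r.Prime) (h1 : 2 ^ 6 = np * (2 ^ d - 1) + 1)
    (hq : 2 ^ 6 = nq * (2 ^ dq - 1) + 1) (hd0 : 0 < d) (hd : d < 6) (he0 : 0 < e) (he : e < d)
    (he2 : e < dq) (hdq : dq < 6)
    (h2 : r ∣ np - 1) (h3 : r ∣ 2 ^ dq - 2 ^ e) : r = 2 := by
  have hd3 : d ≤ 3 := by
    by_contra hc
    have h4 : d = 4 ∨ d = 5 := by omega
    rcases h4 with rfl | rfl <;> omega
  have hq3 : dq ≤ 3 := by
    by_contra hc
    have h4 : dq = 4 ∨ dq = 5 := by omega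
    rcases h4 with rfl | rfl <;> omega
  have h4 : r ∣ 4 := by
    have hd' : d = 2 ∨ d = 3 := by omega
    have hdq' : dq = 2 ∨ dq = 3 := by omega
    rcases hd' with rfl | rfl
    · have hnp : np = 21 := by omega
      subst hnp
      have h5 : e = 1 := by omega
      subst h5
      rcases hdq' with rfl | rfl
      · exact (Nat.dvd_gcd h2 h3).trans (by norm_num)
      · exact (Nat.dvd_gcd h2 h3).trans (by norm_num)
    · have hnp : np = 9 := by omega
      subst hnp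
      have h5 : e = 1 ∨ e = 2 := by omega
      rcases h5 with rfl | rfl <;> rcases hdq' with rfl | rfl
      · exact (Nat.dvd_gcd h2 h3).trans (by norm_num)
      · exact (Nat.dvd_gcd h2 h3).trans (by norm_num)
      · omega
      · exact (Nat.dvd_gcd h2 h3).trans (by norm_num)
  have h5 : r ∣ 2 ^ 2 := by simpa using h4
  exact (Nat.prime_dvd_prime_iff_eq hr Nat.prime_two).mp (hr.dvd_of_dvd_pow h5)

/-- Congruence for the action of a `p`-subgroup on an invariant subgroup. -/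
theorem card_modEq_fixW {A : Subgroup Γ} (hA : IsPGroup p A) (F : Subgroup W)
    (hF : ∀ x ∈ A, ∀ w ∈ F, act x w ∈ F) :
    Nat.card F ≡ Nat.card ↥(F ⊓ fixW act A) [MOD p] := by
  classical
  letI : MulAction A F :=
    { smul := fun x w => ⟨act x w, hF _ x.2 _ w.2⟩
      one_smul := fun w => by
        apply Subtype.ext
        show act ((1 : A) : Γ) (w : W) = w
        simp
      mul_smul := fun x y w => by
        apply Subtype.ext
        show act ((x * y : A) : Γ) (w : W) = act (x : Γ) (act (y : Γ) (w : W))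
        simp [map_mul] }
  have h := hA.card_modEq_card_fixedPoints F
  have h2 : Nat.card (MulAction.fixedPoints A F) = Nat.card ↥(F ⊓ fixW act A) := by
    refine Nat.card_congr ⟨fun w => ⟨w.1.1, w.1.2, ?_⟩, fun w => ⟨⟨w.1, w.2.1⟩, ?_⟩, ?_, ?_⟩
    · intro a ha
      have := w.2 ⟨a, ha⟩
      exact congrArg Subtype.val this
    · intro a
      apply Subtype.ext
      exact w.2.2 a a.2
    · intro w
      rfl
    · intro w
      rfl
  rwa [h2] at h

/-- The whole statement. -/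
theorem exists_z (hpq : p ≠ q) (hs : s.Prime) (hW : Nat.card W = s ^ n) (hn : 0 < n)
    (hKP : ∀ P' : Sylow p Γ, ∃ k ∈ K, k • P₀ = P')
    (hKQ : ∀ Q' : Sylow q Γ, ∃ k ∈ K, k • Q₀ = Q')
    (hPn : ¬ (P₀ : Subgroup Γ).Normal) (hQn : ¬ (Q₀ : Subgroup Γ).Normal)
    (hgp : ∀ w : W, w ≠ 1 → GoodAt Γ p (stab act w))
    (hgq : ∀ w : W, w ≠ 1 → GoodAt Γ q (stab act w))
    (hcomm : ∀ x ∈ (P₀ : Subgroup Γ), ∀ y ∈ (Q₀ : Subgroup Γ), x * y = y * x)
    {w₀ : W} (hw₀ : w₀ ≠ 1) (hw₀P : w₀ ∈ fixW act (P₀ : Subgroup Γ))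
    (hw₀Q : w₀ ∈ fixW act (Q₀ : Subgroup Γ)) :
    ∃ z ∈ K, (∀ P' : Sylow p Γ, z • P' ≠ P') ∧ (∀ Q' : Sylow q Γ, z • Q' ≠ Q') := by
  classical
  by_cases hnest : fixW act (P₀ : Subgroup Γ) ≤ fixW act (Q₀ : Subgroup Γ)
  · exact exists_z_nested act K P₀ Q₀ hKP hKQ hQn hgq hnest hw₀ hw₀P
  by_cases hnest' : fixW act (Q₀ : Subgroup Γ) ≤ fixW act (P₀ : Subgroup Γ)
  · obtain ⟨z, hz, h1, h2⟩ := exists_z_nested act K Q₀ P₀ hKQ hKP hPn hgp hnest' hw₀ hw₀Q
    exact ⟨z, hz, h2, h1⟩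
  obtain ⟨d, hd0, hdn, hdc, hdeq⟩ := exists_part_card act hs hW hn hgp P₀ hPn
  obtain ⟨d', hd0', hdn', hdc', hdeq'⟩ := exists_part_card act hs hW hn hgq Q₀ hQn
  set Z := fixW act (P₀ : Subgroup Γ) ⊓ fixW act (Q₀ : Subgroup Γ) with hZ
  have hZdvd : Nat.card Z ∣ s ^ d := by
    rw [← hdc]
    exact Subgroup.card_dvd_of_le inf_le_left
  obtain ⟨e, he, he2⟩ := (Nat.dvd_prime_pow hs).mp hZdvd
  have hZ1 : 1 < Nat.card Z := by
    rw [Finite.one_lt_card_iff_nontrivial]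
    exact ⟨⟨w₀, hw₀P, hw₀Q⟩, 1, fun h => hw₀ (congrArg Subtype.val h)⟩
  have he0 : 0 < e := by
    rcases Nat.eq_zero_or_pos e with rfl | h
    · rw [he2, pow_zero] at hZ1
      exact absurd hZ1 (lt_irrefl 1)
    · exact h
  have hed : e < d := by
    by_contra hc
    have h1 : e = d := le_antisymm he (not_lt.mp hc)
    apply hnest
    have h2 : Z = fixW act (P₀ : Subgroup Γ) := by
      apply Subgroup.eq_of_le_of_card_ge inf_le_left
      rw [hdc, he2, h1]
    rw [← h2]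
    exact inf_le_right
  have hed' : e < d' := by
    have h0 : s ^ e ∣ s ^ d' := by
      rw [← he2, ← hdc']
      exact Subgroup.card_dvd_of_le inf_le_right
    have h1 : e ≤ d' := (Nat.pow_dvd_pow_iff_le_right hs.one_lt).mp h0
    by_contra hc
    have h2 : e = d' := le_antisymm h1 (not_lt.mp hc)
    apply hnest'
    have h3 : Z = fixW act (Q₀ : Subgroup Γ) := by
      apply Subgroup.eq_of_le_of_card_ge inf_le_right
      rw [hdc', he2, h2]
    rw [← h3]
    exact inf_le_left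
  by_cases h26 : s = 2 ∧ n = 6
  · exfalso
    obtain ⟨rfl, rfl⟩ := h26
    have hP : p = 2 := by
      have h1 : Nat.card (Sylow p Γ) ≡ 1 [MOD p] := card_sylow_modEq_one p Γ
      have h2 : p ∣ Nat.card (Sylow p Γ) - 1 := (Nat.modEq_iff_dvd' Nat.card_pos).mp h1.symm
      have h3 := card_modEq_fixW act (P₀.isPGroup') (fixW act (Q₀ : Subgroup Γ)) (by
        intro x hx w hw y hy
        rw [← MulAut.mul_apply, ← map_mul, ← hcomm x hx y hy, map_mul, MulAut.mul_apply, hw y hy])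
      rw [hdc', inf_comm, ← hZ, he2] at h3
      have h4 : p ∣ 2 ^ d' - 2 ^ e :=
        (Nat.modEq_iff_dvd' (Nat.pow_le_pow_right (by norm_num) hed'.le)).mp h3.symm
      exact two_six_arith (Fact.out) hdeq hdeq' hd0 hdn he0 hed hed' hdn' h2 h4
    have hQ : q = 2 := by
      have h1 : Nat.card (Sylow q Γ) ≡ 1 [MOD q] := card_sylow_modEq_one q Γ
      have h2 : q ∣ Nat.card (Sylow q Γ) - 1 := (Nat.modEq_iff_dvd' Nat.card_pos).mp h1.symm
      have h3 := card_modEq_fixW act (Q₀.isPGroup') (fixW act (P₀ : Subgroup Γ)) (by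
        intro x hx w hw y hy
        rw [← MulAut.mul_apply, ← map_mul, hcomm y hy x hx, map_mul, MulAut.mul_apply, hw y hy])
      rw [hdc, ← hZ, he2] at h3
      have h4 : q ∣ 2 ^ d - 2 ^ e :=
        (Nat.modEq_iff_dvd' (Nat.pow_le_pow_right (by norm_num) hed.le)).mp h3.symm
      exact two_six_arith (Fact.out) hdeq' hdeq hd0' hdn' he0 hed' hed hdn h2 h4
    exact hpq (hP.trans hQ.symm)
  · obtain ⟨t, ht, ht1, ht2⟩ := Cfsg.Agent.Lib.Zsig.Basic.zsigmondy s n hs.one_lt (by omega) h26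
      (by rintro ⟨h, -⟩; omega)
    haveI : Fact t.Prime := ⟨ht⟩
    exact exists_z_ppd act K P₀ Q₀ hs hW hn hKP hPn hQn hgp hgq ht1 ht2

end existence

end Cfsg.Agent.Lib.Palfy.Zee
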